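import Groth.Agent.Lib.ArtinAtlas.ActionOps
import Mathlib.AlgebraicGeometry.Limits

/-!
# Disjoint unions of free actions
-/

set_option autoImplicit false

universe u

open CategoryTheory CategoryTheory.Limits MonoidalCategory CartesianMonoidalCategory AlgebraicGeometry
open scoped MonObj

namespace Groth.Agent.Lib.ArtinAtlas

namespace ActOps

variable {S : Scheme.{u}} {G : Over S} [GrpObj G] {I : Type u} (E : I → Over S)

/-- The disjoint union over the base. -/
noncomputable abbrev sigmaOver : Over S := Over.mk (Sigma.desc fun i => (E i).hom)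

/-- The inclusion of a summand. -/
noncomputable abbrev sigmaIn (i : I) : E i ⟶ sigmaOver E :=
  Over.homMk (Sigma.ι (fun i => (E i).left) i) (Sigma.ι_desc (fun i => (E i).hom) i)

instance isOpenImmersion_sigmaIn (i : I) : IsOpenImmersion (sigmaIn E i).left :=
  inferInstanceAs (IsOpenImmersion (Sigma.ι (fun i => (E i).left) i))

theorem exists_sigmaIn (x : (sigmaOver E).left) : ∃ i, x ∈ Set.range (sigmaIn E i).left := by
  obtain ⟨⟨i, y⟩, rfl⟩ := (sigmaMk fun i => (E i).left).surjective x
  exact ⟨i, y, (sigmaMk_mk _ _ _).symm⟩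

/-- The cover of a product with a disjoint union. -/
noncomputable def prodCover (H : Over S) : (H ⊗ sigmaOver E).left.OpenCover where
  I₀ := I
  X i := (H ⊗ E i).left
  f i := (H ◁ sigmaIn E i).left
  mem₀ := by
    rw [Scheme.presieve₀_mem_precoverage_iff]
    refine ⟨fun w => ?_, fun i => isOpenImmersion_whiskerLeft H (sigmaIn E i)⟩
    obtain ⟨i, y, hy⟩ := exists_sigmaIn E ((snd H (sigmaOver E)).left w)
    obtain ⟨z, hz, -⟩ := Scheme.exists_preimage_of_isPullback
      ((AlgSt.isPullback_whiskerLeft (G := H) (sigmaIn E i)).map (Over.forget S)) w y hy.symm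
    exact ⟨i, z, hz⟩

theorem prod_hom_ext (H : Over S) {Y : Over S} (f f' : H ⊗ sigmaOver E ⟶ Y)
    (h : ∀ i, (H ◁ sigmaIn E i) ≫ f = (H ◁ sigmaIn E i) ≫ f') : f = f' :=
  Over.OverMorphism.ext (Scheme.Cover.hom_ext (prodCover E H) _ _ fun i => congrArg CommaMorphism.left (h i))

variable {E}

theorem overlap (H : Over S) (i k : I) {Y : Scheme.{u}} (φ : ∀ i, (H ⊗ E i).left ⟶ Y) :
    pullback.fst (H ◁ sigmaIn E i).left (H ◁ sigmaIn E k).left ≫ φ i =
      pullback.snd (H ◁ sigmaIn E i).left (H ◁ sigmaIn E k).left ≫ φ k := by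
  by_cases hik : i = k
  · subst hik
    have := isOpenImmersion_whiskerLeft H (sigmaIn E i)
    rw [fst_eq_snd_of_mono_eq]
  · have : IsEmpty ↑(pullback (H ◁ sigmaIn E i).left (H ◁ sigmaIn E k).left) := by
      refine isEmpty_of_commSq_sigmaι_of_ne (g := fun i => (E i).left) (a := pullback.fst _ _ ≫ (snd H (E i)).left)
        (b := pullback.snd _ _ ≫ (snd H (E k)).left) ⟨?_⟩ hik
      have h := congrArg (· ≫ (snd H (sigmaOver E)).left)
        (pullback.condition (f := (H ◁ sigmaIn E i).left) (g := (H ◁ sigmaIn E k).left))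
      rw [Category.assoc, Category.assoc, ← Over.comp_left, ← Over.comp_left, whiskerLeft_snd, whiskerLeft_snd] at h
      simp only [Category.assoc]
      exact h
    exact (isInitialOfIsEmpty).hom_ext _ _

theorem exists_glue (H : Over S) {Y : Over S} (φ : ∀ i, H ⊗ E i ⟶ Y) :
    ∃ f : H ⊗ sigmaOver E ⟶ Y, ∀ i, (H ◁ sigmaIn E i) ≫ f = φ i := by
  let 𝒰 := prodCover E H
  let g : (H ⊗ sigmaOver E).left ⟶ Y.left :=
    𝒰.glueMorphisms (fun i => (φ i).left) (fun i k => overlap (E := E) H i k (fun i => (φ i).left))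
  have hg : ∀ i : I, (H ◁ sigmaIn E i).left ≫ g = (φ i).left := fun i => Scheme.Cover.ι_glueMorphisms 𝒰 _ _ i
  have hw : g ≫ Y.hom = (H ⊗ sigmaOver E).hom := Scheme.Cover.hom_ext 𝒰 _ _ fun i =>
    (Category.assoc _ _ _).symm.trans ((congrArg (· ≫ Y.hom) (hg i)).trans
      ((Over.w (φ i)).trans (Over.w (H ◁ sigmaIn E i)).symm))
  exact ⟨Over.homMk g hw, fun i => Over.OverMorphism.ext (hg i)⟩

/-- The disjoint union of free actions is free. -/
theorem exists_sigma_action (a : ∀ i, AlgGrp.Action G (E i)) (ha : ∀ i, PtFree (a i)) :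
    ∃ a' : AlgGrp.Action G (sigmaOver E), PtFree a' := by
  classical
  have hmono : ∀ i, Mono (sigmaIn E i) := fun i => Over.mono_of_mono_left _
  obtain ⟨act, hact⟩ := exists_glue (E := E) G fun i => (a i).act ≫ sigmaIn E i
  refine ⟨{ act := act, one_act := ?_, mul_act := ?_ }, fun T g x h => ?_⟩
  · refine prod_hom_ext E _ _ _ fun i => ?_
    rw [whisker_exchange_assoc, hact, reassoc_of% (a i).one_act]
    simp
  · refine prod_hom_ext E _ _ _ fun i => ?_
    rw [whisker_exchange_assoc, hact, reassoc_of% (a i).mul_act, associator_naturality_right_assoc,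
      ← whiskerLeft_comp_assoc, hact, whiskerLeft_comp_assoc, hact]
  · refine Over.OverMorphism.ext (Scheme.hom_ext_of_forall _ _ fun t => ?_)
    obtain ⟨i, hi⟩ := exists_sigmaIn E (x.left t)
    let U : T.left.Opens := x.left ⁻¹ᵁ (sigmaIn E i).left.opensRange
    refine ⟨U, hi, ?_⟩
    let TU : Over S := Over.mk (U.ι ≫ T.hom)
    let iU : TU ⟶ T := Over.homMk U.ι
    have hr : Set.range (iU ≫ x).left ⊆ Set.range (sigmaIn E i).left := by
      rintro _ ⟨p, rfl⟩; exact p.2
    let y : TU ⟶ E i := Over.homMk (IsOpenImmersion.lift (sigmaIn E i).left (iU ≫ x).left hr) (by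
      rw [← Over.w (sigmaIn E i), ← Category.assoc, IsOpenImmersion.lift_fac, Over.w])
    have hy : y ≫ sigmaIn E i = iU ≫ x := Over.OverMorphism.ext (IsOpenImmersion.lift_fac _ _ _)
    have h1 : lift (iU ≫ g) y ≫ (a i).act = y := by
      have := hmono i
      refine (cancel_mono (sigmaIn E i)).1 ?_
      rw [Category.assoc, ← hact, lift_whiskerLeft_assoc, hy, ← comp_lift_assoc, h]
    have h2 := ha i TU (iU ≫ g) y h1
    rw [← MonObj.comp_one iU] at h2
    exact congrArg CommaMorphism.left h2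

end ActOps

end Groth.Agent.Lib.ArtinAtlas
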