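import Groth.Agent.Lib.Flat55.CMSlice
import Groth.Agent.Lib.ActSep.CMDescend
import Mathlib.RingTheory.Jacobson.Artinian
import Mathlib.RingTheory.Spectrum.Prime.Jacobson
import Mathlib.AlgebraicGeometry.Morphisms.FiniteType

/-!
# A finite subscheme cut out by a regular sequence
-/

set_option autoImplicit false

universe u

open AlgebraicGeometry CategoryTheory IsLocalRing RingTheory.Sequence LocCoh

namespace Groth.Agent.Lib.ArtinAtlas

variable (k A : Type u) [Field k] [CommRing A] [Algebra k A] [Algebra.FiniteType k A] [Nontrivial A]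

include k

/-- There is a maximal ideal with Cohen–Macaulay local ring. -/
theorem exists_cm_maximal : ∃ (Q : Ideal A) (_ : Q.IsMaximal),
    IsCohenMacaulayLocalRing (Localization.AtPrime Q) := by
  let f : Spec (CommRingCat.of A) ⟶ Spec (CommRingCat.of k) :=
    Spec.map (CommRingCat.ofHom (algebraMap k A))
  have : LocallyOfFiniteType f := (HasRingHomProperty.Spec_iff (P := @LocallyOfFiniteType)).2
    (RingHom.finiteType_algebraMap.2 inferInstance)
  have : IsJacobsonRing A := isJacobsonRing_of_finiteType (A := k)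
  have : IsNoetherianRing A := Algebra.FiniteType.isNoetherianRing k A
  let Cs := {y : PrimeSpectrum A | IsCohenMacaulayLocalRing ((Spec (CommRingCat.of A)).presheaf.stalk y)}
  have hC : IsOpen Cs := ActSep.isOpen_setOf_isCohenMacaulay f
  have hiso : ∀ y : PrimeSpectrum A, (IsCohenMacaulayLocalRing (Localization.AtPrime y.asIdeal) ↔ y ∈ Cs) := fun y => by
    let e : Localization.AtPrime y.asIdeal ≃+* (Spec (CommRingCat.of A)).presheaf.stalk y :=
      (Spec.stalkIso (CommRingCat.of A) y).symm.commRingCatIsoToRingEquiv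
    exact ⟨fun _ => Excellent.Transport.isCohenMacaulayLocalRing_of_ringEquiv e,
      fun (h : IsCohenMacaulayLocalRing _) => Excellent.Transport.isCohenMacaulayLocalRing_of_ringEquiv e.symm⟩
  obtain ⟨p, hp⟩ := Ideal.nonempty_minimalPrimes (I := (⊥ : Ideal A)) bot_ne_top
  have := hp.1.1
  let pp : PrimeSpectrum A := ⟨p, hp.1.1⟩
  have hpC : pp ∈ Cs := by
    refine (hiso pp).1 (Depth.CM.isCohenMacaulayLocalRing_iff.2 (le_trans ?_ (WithBot.coe_le_coe.2 bot_le)))
    rw [IsLocalization.AtPrime.ringKrullDim_eq_height p]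
    simp [Ideal.height_eq_zero_iff.2 hp]
  obtain ⟨a, ha, hac⟩ := nonempty_inter_closedPoints (Z := Cs) ⟨pp, hpC⟩ hC.isLocallyClosed
  exact ⟨a.asIdeal, (PrimeSpectrum.isClosed_singleton_iff_isMaximal a).1 (mem_closedPoints_iff.1 hac),
    (hiso a).2 ha⟩

/-- A finite closed subscheme, supported at one point and cut out there by a regular sequence. -/
theorem exists_slice_point : ∃ (Q J : Ideal A) (hs : List A), Q.IsMaximal ∧ J ≤ Q ∧
    Module.Finite k (A ⧸ J) ∧ (∀ h ∈ hs, h ∈ J) ∧
    (∀ P : Ideal A, P.IsMaximal → J ≤ P → P = Q) ∧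
    (∀ x ∈ J, ∃ s ∉ Q, s * x ∈ Ideal.ofList hs) ∧
    ∀ (i : ℕ) (hi : i < hs.length) (x : A), hs[i] * x ∈ Ideal.ofList (hs.take i) →
      ∃ s ∉ Q, s * x ∈ Ideal.ofList (hs.take i) := by
  classical
  obtain ⟨Q, hQ, hcm⟩ := exists_cm_maximal k A
  let R := Localization.AtPrime Q
  obtain ⟨rs, hrs, hreg, hdim⟩ := Flat55.CMSlice.exists_regular_dim_zero R
  choose num den hnd using fun r : R => IsLocalization.exists_mk'_eq Q.primeCompl r
  let hs : List A := rs.map num
  have hassoc : ∀ r, Associated (algebraMap A R (num r)) r := fun r => by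
    refine (Associated.symm ⟨(IsLocalization.map_units R (den r)).unit, ?_⟩)
    have h := IsLocalization.mk'_spec R (num r) (den r)
    rw [hnd r] at h
    rw [IsUnit.unit_spec]
    exact h
  have hspan : ∀ i, (Ideal.ofList (hs.take i)).map (algebraMap A R) = Ideal.ofList (rs.take i) := fun i => by
    simp only [hs, ← List.map_take, Ideal.map_ofList, List.map_map]
    refine le_antisymm (Ideal.span_le.2 ?_) (Ideal.span_le.2 ?_)
    · intro y hy
      obtain ⟨r, hr, rfl⟩ := List.mem_map.1 hy
      exact Ideal.mem_of_dvd _ (hassoc r).symm.dvd (Ideal.subset_span hr)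
    · intro r hr
      exact Ideal.mem_of_dvd _ (hassoc r).dvd (Ideal.subset_span (List.mem_map.2 ⟨r, hr, rfl⟩))
  let J : Ideal A := (Ideal.ofList rs).comap (algebraMap A R)
  have hrsm : Ideal.ofList rs ≤ maximalIdeal R := Ideal.span_le.2 hrs
  have hJQ : J ≤ Q := (Ideal.comap_mono hrsm).trans
    (IsLocalization.AtPrime.under_maximalIdeal R Q).le
  have hall : hs.take hs.length = hs := List.take_length
  have hmapJ : (Ideal.ofList hs).map (algebraMap A R) = Ideal.ofList rs := by
    have h := hspan hs.length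
    rwa [hall, show hs.length = rs.length from List.length_map _, List.take_length] at h
  have hJ : ∀ x ∈ J, ∃ s ∉ Q, s * x ∈ Ideal.ofList hs := fun x hx => by
    rw [Ideal.mem_comap, ← hmapJ] at hx
    exact (IsLocalization.algebraMap_mem_map_algebraMap_iff Q.primeCompl R _ x).1 hx
  have : IsNoetherianRing A := Algebra.FiniteType.isNoetherianRing k A
  obtain ⟨N, hN⟩ : ∃ N, Q ^ N ≤ J := by
    have hrad : maximalIdeal R ≤ (Ideal.ofList rs).radical := by
      rw [Ideal.radical_eq_sInf]
      refine le_sInf fun P ⟨hle, hP⟩ => ?_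
      have : (P.map (Ideal.Quotient.mk (Ideal.ofList rs))).IsPrime :=
        Ideal.map_isPrime_of_surjective Ideal.Quotient.mk_surjective (by rwa [Ideal.mk_ker])
      have : (P.map (Ideal.Quotient.mk (Ideal.ofList rs))).IsMaximal := Ideal.IsPrime.isMaximal' ‹_›
      have h2 := Ideal.comap_isMaximal_of_surjective (Ideal.Quotient.mk (Ideal.ofList rs))
        Ideal.Quotient.mk_surjective (K := P.map (Ideal.Quotient.mk (Ideal.ofList rs)))
      rw [Ideal.comap_map_mk hle] at h2
      exact (IsLocalRing.eq_maximalIdeal h2).ge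
    obtain ⟨N, hN⟩ := Ideal.exists_pow_le_of_le_radical_of_fg hrad (IsNoetherian.noetherian _)
    refine ⟨N, ?_⟩
    rw [← Ideal.map_le_iff_le_comap, Ideal.map_pow, IsLocalization.AtPrime.map_eq_maximalIdeal Q R]
    exact hN
  have huniq : ∀ P : Ideal A, P.IsPrime → J ≤ P → P = Q := fun P hP hJP =>
    (hQ.eq_of_le hP.ne_top (hP.le_of_pow_le (hN.trans hJP))).symm
  refine ⟨Q, J, hs, hQ, hJQ, ?_, fun h hh => ?_, fun P hP => huniq P hP.isPrime, hJ, fun i hi x hx => ?_⟩
  · have hJtop : J ≠ ⊤ := fun h => hQ.ne_top (top_le_iff.1 (h ▸ hJQ))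
    have : IsNoetherianRing A := Algebra.FiniteType.isNoetherianRing k A
    have : IsArtinianRing (A ⧸ J) := by
      rw [isArtinianRing_iff_krullDimLE_zero, Ring.krullDimLE_zero_iff]
      intro P hP
      have h1 := huniq (P.comap (Ideal.Quotient.mk J)) inferInstance
        (fun z hz => by rw [Ideal.mem_comap, Ideal.Quotient.eq_zero_iff_mem.2 hz]; exact P.zero_mem)
      have h2 : P = Q.map (Ideal.Quotient.mk J) := by
        rw [← h1, Ideal.map_comap_of_surjective _ Ideal.Quotient.mk_surjective]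
      rw [h2]
      refine (Ideal.map_eq_top_or_isMaximal_of_surjective _ Ideal.Quotient.mk_surjective hQ).resolve_left ?_
      exact h2 ▸ hP.ne_top
    exact Module.finite_of_isArtinianRing k (A ⧸ J)
  · obtain ⟨r, hr, rfl⟩ := List.mem_map.1 hh
    exact Ideal.mem_comap.2 (Ideal.mem_of_dvd _ (hassoc r).symm.dvd (Ideal.subset_span hr))
  · have hi' : i < rs.length := by simpa [hs] using hi
    have h1 := hreg.regular_mod_prev i hi'
    rw [isSMulRegular_quotient_iff_mem_of_smul_mem, Ideal.smul_eq_mul, Ideal.mul_top] at h1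
    have hx' : algebraMap A R hs[i] * algebraMap A R x ∈ Ideal.ofList (rs.take i) := by
      rw [← hspan, ← map_mul]; exact Ideal.mem_map_of_mem _ hx
    have h2 : algebraMap A R x ∈ Ideal.ofList (rs.take i) := h1 _ (by
      obtain ⟨c, hc⟩ := (hassoc (rs[i]'hi')).dvd
      have e : hs[i] = num (rs[i]'hi') := List.getElem_map _
      rw [smul_eq_mul, hc, ← e, mul_right_comm]
      exact Ideal.mul_mem_right _ _ hx')
    rw [← hspan] at h2
    exact (IsLocalization.algebraMap_mem_map_algebraMap_iff Q.primeCompl R _ x).1 h2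

end Groth.Agent.Lib.ArtinAtlas
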