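import Groth.Agent.Lib.ArtinAtlas.SmoothPt
import Groth.Agent.Lib.ArtinAtlas.Point
import Mathlib.LinearAlgebra.FiniteDimensional.Basic

/-!
# Smooth points of representation rings
-/

set_option autoImplicit false

universe u

namespace Groth.Agent.Lib.ArtinAtlas

open IsLocalRing TensorProduct Matrix

variable {R A : Type u} [CommRing R] [CommRing A] [Algebra R A] [Algebra.FinitePresentation R A]
  [Module.Flat R A] {n : ℕ}

set_option maxHeartbeats 600000 in
/-- Sections of nilpotent extensions of the local ring at a slice point. -/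
theorem exists_section_of_slicePoint {B : Type u} [CommRing B] [Algebra R B] (M : A →ₐ[R] Matrix (Fin n) (Fin n) B)
    (hM : ∀ (C : Type u) [CommRing C] [Algebra R C] (m : A →ₐ[R] Matrix (Fin n) (Fin n) C),
      ∃! g : B →ₐ[R] C, g.mapMatrix.comp M = m)
    {k : Type u} [Field k] [Algebra R k] {B₀ : Type u} [CommRing B₀] [IsLocalRing B₀] [Algebra R B₀]
    [Algebra B B₀] [IsScalarTower R B B₀] (q : Ideal B) [q.IsPrime] [IsLocalization.AtPrime B₀ q]
    {C : Type u} [CommRing C] [IsLocalRing C] [Algebra R C] (π : C →ₐ[R] B₀) (hπ : Function.Surjective π)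
    (hN : IsNilpotent (RingHom.ker π)) (red : B₀ →ₐ[R] k) (hred : Function.Surjective red)
    (e₀ : Fin n → B₀) {Qk : Ideal (k ⊗[R] A)} {hsk : List (k ⊗[R] A)}
    (hpt : IsSlicePoint (red.mapMatrix.comp ((IsScalarTower.toAlgHom R B B₀).mapMatrix.comp M)) (red ∘ e₀) Qk hsk) :
    ∃ g : B₀ →ₐ[R] C, π.comp g = AlgHom.id R B₀ := by
  let loc : B →ₐ[R] B₀ := IsScalarTower.toAlgHom R B B₀
  obtain ⟨m, hm⟩ := exists_lift_rep (Qk := Qk) (hsk := hsk) π hπ hN red hred (loc.mapMatrix.comp M) e₀ hpt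
  obtain ⟨g, hg, -⟩ := hM C m
  have hπg : π.comp g = loc := by
    obtain ⟨g', -, hu'⟩ := hM B₀ (loc.mapMatrix.comp M)
    refine (hu' _ ?_).trans (hu' _ rfl).symm
    rw [← hm, ← hg]; ext a i j; rfl
  have hgu : ∀ s : q.primeCompl, IsUnit (g s) := fun s => by
    have : IsLocalHom π.toRingHom := IsLocalHom.of_surjective π.toRingHom hπ
    refine isUnit_of_map_unit π.toRingHom _ ?_
    rw [show π.toRingHom (g s) = loc s from DFunLike.congr_fun hπg (s : B)]
    exact IsLocalization.map_units B₀ s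
  refine ⟨IsLocalization.liftAlgHom (M := q.primeCompl) (f := g) hgu, ?_⟩
  refine IsLocalization.algHom_ext q.primeCompl ?_
  refine AlgHom.ext fun b => ?_
  exact (congrArg π (IsLocalization.lift_eq (M := q.primeCompl) (S := B₀) hgu b)).trans (DFunLike.congr_fun hπg b)

set_option maxHeartbeats 600000 in
/-- The representation ring is smooth at a slice point. -/
theorem isSmoothAt_of_slicePoint {B : Type u} [CommRing B] [Algebra R B] (M : A →ₐ[R] Matrix (Fin n) (Fin n) B)
    (hM : ∀ (C : Type u) [CommRing C] [Algebra R C] (m : A →ₐ[R] Matrix (Fin n) (Fin n) C),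
      ∃! g : B →ₐ[R] C, g.mapMatrix.comp M = m)
    {k : Type u} [Field k] [Algebra R k] (χ : B →ₐ[R] k)
    (hk : ∀ x : k, ∃ b c, χ c ≠ 0 ∧ x * χ c = χ b)
    (e : Fin n → k) {Qk : Ideal (k ⊗[R] A)} {hsk : List (k ⊗[R] A)}
    (hpt : IsSlicePoint (χ.mapMatrix.comp M) e Qk hsk) (q : Ideal B) [q.IsPrime] (hq : q = RingHom.ker χ) :
    Algebra.IsSmoothAt R q := by
  subst hq
  let q := RingHom.ker χ
  let B₀ := Localization.AtPrime q
  have hu : ∀ s : q.primeCompl, IsUnit (χ s) := fun s => isUnit_iff_ne_zero.2 s.2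
  let red : B₀ →ₐ[R] k := IsLocalization.liftAlgHom (M := q.primeCompl) (f := χ) hu
  have hredc : ∀ b, red (algebraMap B B₀ b) = χ b := fun b => IsLocalization.lift_eq _ _
  have hred : Function.Surjective red := fun x => by
    obtain ⟨b, c, hc, hx⟩ := hk x
    refine ⟨IsLocalization.mk' B₀ b (⟨c, hc⟩ : q.primeCompl), mul_right_cancel₀ hc ?_⟩
    rw [hx, ← hredc b, ← hredc c, ← map_mul]
    exact congrArg red (IsLocalization.mk'_spec B₀ b (⟨c, hc⟩ : q.primeCompl))
  let loc : B →ₐ[R] B₀ := IsScalarTower.toAlgHom R B B₀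
  have hχ : red.comp loc = χ := AlgHom.ext hredc
  -- a formally smooth local cover
  let P' := MvPolynomial B₀ R
  let ev : P' →ₐ[R] B₀ := MvPolynomial.aeval id
  let p : Ideal P' := (maximalIdeal B₀).comap ev
  have : p.IsPrime := Ideal.comap_isPrime _ _
  let P := Localization.AtPrime p
  have hup : ∀ s : p.primeCompl, IsUnit (ev s) := fun s => IsLocalRing.notMem_maximalIdeal.1 s.2
  let f : P →ₐ[R] B₀ := IsLocalization.liftAlgHom (M := p.primeCompl) (f := ev) hup
  have hf : Function.Surjective f := fun x => ⟨algebraMap P' P (MvPolynomial.X x), by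
    rw [show f (algebraMap P' P (MvPolynomial.X x)) = ev (MvPolynomial.X x) from IsLocalization.lift_eq _ _]
    exact MvPolynomial.aeval_X _ x⟩
  change Algebra.FormallySmooth R B₀
  rw [Algebra.FormallySmooth.iff_split_surjection f hf]
  let N : Ideal P := RingHom.ker f.toRingHom
  have : Nontrivial (P ⧸ N ^ 2) := Ideal.Quotient.nontrivial_iff.2 fun h =>
    (RingHom.ker_ne_top f.toRingHom) (top_le_iff.1 (h ▸ Ideal.pow_le_self two_ne_zero))
  have : IsLocalRing (P ⧸ N ^ 2) := .of_surjective' (Ideal.Quotient.mk _) Ideal.Quotient.mk_surjective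
  let π : (P ⧸ N ^ 2) →ₐ[R] B₀ := f.kerSquareLift
  have hπ : Function.Surjective π := fun x => by
    obtain ⟨y, rfl⟩ := hf x
    exact ⟨Ideal.Quotient.mk _ y, rfl⟩
  have hN : IsNilpotent (RingHom.ker π) := ⟨2, by
    change RingHom.ker π.toRingHom ^ 2 = 0
    rw [AlgHom.ker_kerSquareLift, Ideal.cotangentIdeal_square]; rfl⟩
  choose e₀ he₀ using fun i => hred (e i)
  have hpt' : IsSlicePoint (red.mapMatrix.comp (loc.mapMatrix.comp M)) (red ∘ e₀) Qk hsk := by
    have h1 : red.mapMatrix.comp (loc.mapMatrix.comp M) = χ.mapMatrix.comp M := by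
      rw [← hχ]; rfl
    have h2 : red ∘ e₀ = e := funext he₀
    rw [h1, h2]; exact hpt
  exact exists_section_of_slicePoint M hM (k := k) (B₀ := B₀) q (C := P ⧸ N ^ 2) π hπ hN red hred e₀ hpt'

variable (R A)

omit [Module.Flat R A] in
/-- Slice points exist in every nonempty fibre. -/
theorem exists_slicePoint (k : Type u) [Field k] [Algebra R k] [Nontrivial (k ⊗[R] A)] :
    ∃ (n : ℕ) (m : A →ₐ[R] Matrix (Fin n) (Fin n) k) (e : Fin n → k) (Q : Ideal (k ⊗[R] A))
      (hs : List (k ⊗[R] A)), 0 < n ∧ IsSlicePoint m e Q hs := by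
  obtain ⟨Q, J, hs, hQ, hJQ, hfin, hmem, huniq, hgen, hreg⟩ := exists_slice_point k (k ⊗[R] A)
  have : Nontrivial ((k ⊗[R] A) ⧸ J) :=
    Ideal.Quotient.nontrivial_iff.2 fun h => hQ.ne_top (top_le_iff.1 (h ▸ hJQ))
  let b := Module.finBasis k ((k ⊗[R] A) ⧸ J)
  let incl : A →ₐ[R] k ⊗[R] A := Algebra.TensorProduct.includeRight
  let m : A →ₐ[R] Matrix (Fin (Module.finrank k ((k ⊗[R] A) ⧸ J))) (Fin (Module.finrank k ((k ⊗[R] A) ⧸ J))) k :=
    ((Algebra.leftMulMatrix b).restrictScalars R).comp ((Ideal.Quotient.mkₐ R J).comp incl)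
  have hev : ∀ x, evalMap (AlgHom.id R k) m x = Algebra.leftMulMatrix b (Ideal.Quotient.mk J x) := by
    intro x
    induction x using TensorProduct.induction_on with
    | zero => rw [map_zero, map_zero, map_zero]
    | tmul c a =>
      rw [evalMap_tmul]
      have : (Ideal.Quotient.mk J (c ⊗ₜ[R] a)) = c • Ideal.Quotient.mk J (incl a) := by
        rw [← Ideal.Quotient.mkₐ_eq_mk k, ← map_smul]
        simp [incl, TensorProduct.smul_tmul']
      rw [this, map_smul]
      rfl
    | add x y hx hy => simp only [map_add, hx, hy]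
  have hvec : ∀ x, evalMap (AlgHom.id R k) m x *ᵥ b.repr 1 = b.repr (Ideal.Quotient.mk J x) := fun x => by
    rw [hev, Algebra.leftMulMatrix_mulVec_repr, mul_one]
  have h0 : ∀ x, evalMap (AlgHom.id R k) m x *ᵥ b.repr 1 = 0 ↔ x ∈ J := fun x => by
    rw [hvec, ← Ideal.Quotient.eq_zero_iff_mem]
    refine ⟨fun h => b.repr.injective (by ext i; simpa using congrFun h i), fun h => by simp [h]⟩
  refine ⟨_, m, b.repr 1, Q, hs, Module.finrank_pos, ⟨fun v => ?_, fun P hP hle => ?_, fun h hh => ?_,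
    fun x hx => hgen x ((h0 x).1 hx), hreg⟩⟩
  · obtain ⟨x, hx⟩ := Ideal.Quotient.mk_surjective (b.equivFun.symm v)
    refine ⟨x, ?_⟩
    rw [hvec, hx, ← b.equivFun_apply]
    exact b.equivFun.apply_symm_apply v
  · exact huniq P hP fun x hx => hle x ((h0 x).2 hx)
  · exact (h0 h).2 (hmem h hh)

end Groth.Agent.Lib.ArtinAtlas
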