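import Groth.Agent.Lib.ArtinAtlas.ChartAction
import Groth.Agent.Lib.ArtinAtlas.SigmaAction
import Groth.Agent.Lib.ArtinAtlas.SmoothRep
import Groth.Agent.Lib.JacCrit.SmoothNhd

/-!
# A free action with smooth surjective structure map
-/

set_option autoImplicit false

universe u

open CategoryTheory CategoryTheory.Limits MonoidalCategory CartesianMonoidalCategory AlgebraicGeometry
open scoped MonObj TensorProduct

namespace Groth.Agent.Lib.ArtinAtlas

variable {S : Scheme.{u}} {G : Over S} [GrpObj G] [IsAffineHom G.hom] [Flat G.hom]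
  [LocallyOfFinitePresentation G.hom]

theorem exists_free_chart {R : CommRingCat.{u}} (j : Spec R ⟶ S) [IsOpenImmersion j] (p : PrimeSpectrum R) :
    ∃ (E : Over S) (_ : LocallyOfFinitePresentation E.hom) (a : AlgGrp.Action G E),
      PtFree a ∧ ∃ z, z ∈ E.hom.smoothLocus ∧ E.hom z = j p := by
  obtain ⟨c⟩ := nonempty_grpChart (j := j) (G := G)
  have := c.flat
  have := c.fp
  let k := p.asIdeal.ResidueField
  have : Nontrivial (k ⊗[R] c.A) :=
    (Algebra.TensorProduct.lift (AlgHom.id R k) (c.onePt k) fun _ _ => Commute.all _ _).toRingHom.domain_nontrivial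
  obtain ⟨n, m, e, Q, hs, hn, hpt⟩ := exists_slicePoint R c.A k
  obtain ⟨B, _, _, hB, M, hM⟩ := exists_repRing R n c.A
  obtain ⟨χ, hχ, -⟩ := hM k m
  have hk : ∀ x : k, ∃ b b', χ b' ≠ 0 ∧ x * χ b' = χ b := fun x => by
    obtain ⟨a, b, hb, rfl⟩ := IsFractionRing.div_surjective (R ⧸ p.asIdeal) x
    obtain ⟨a, rfl⟩ := Ideal.Quotient.mk_surjective a
    obtain ⟨b, rfl⟩ := Ideal.Quotient.mk_surjective b
    have hb' : algebraMap R k b ≠ 0 := fun h => nonZeroDivisors.ne_zero hb
      (IsFractionRing.injective (R ⧸ p.asIdeal) k (by rw [map_zero]; exact h))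
    refine ⟨algebraMap R B a, algebraMap R B b, by rwa [AlgHom.commutes], ?_⟩
    rw [AlgHom.commutes, AlgHom.commutes]
    exact div_mul_cancel₀ (algebraMap R k a) hb'
  let q : Ideal B := RingHom.ker χ
  have : q.IsPrime := RingHom.ker_isPrime χ
  have hsm : Algebra.IsSmoothAt R q :=
    isSmoothAt_of_slicePoint M hM χ hk e (hχ.symm ▸ hpt) q rfl
  have hfp : LocallyOfFinitePresentation (pt j B).hom := by
    have : LocallyOfFinitePresentation (Spec.map (CommRingCat.ofHom (algebraMap R B))) :=
      (HasRingHomProperty.Spec_iff (P := @LocallyOfFinitePresentation)).2 (RingHom.finitePresentation_algebraMap.2 hB)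
    exact inferInstanceAs (LocallyOfFinitePresentation (_ ≫ j))
  obtain ⟨a, ha⟩ := exists_action c hn M hM
  let z : PrimeSpectrum B := ⟨q, inferInstance⟩
  refine ⟨pt j B, hfp, a, ha, z, ?_, ?_⟩
  · refine (JacCrit.SmoothNhd.exists_smooth_nhd_iff (pt j B).hom z).1 ?_
    obtain ⟨_, ⟨_, ⟨f, rfl⟩, rfl⟩, hf, hsub⟩ := PrimeSpectrum.isBasis_basic_opens.exists_subset_of_mem_open
      (show z ∈ Algebra.smoothLocus R B from hsm) Algebra.isOpen_smoothLocus
    have hsmf : Algebra.Smooth R (Localization.Away f) := Algebra.basicOpen_subset_smoothLocus_iff_smooth.mp hsub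
    let i : Spec (CommRingCat.of (Localization.Away f)) ⟶ Spec (CommRingCat.of B) :=
      Spec.map (CommRingCat.ofHom (algebraMap B (Localization.Away f)))
    have : IsOpenImmersion i := IsOpenImmersion.of_isLocalization f
    refine ⟨i.opensRange, (PrimeSpectrum.localization_away_comap_range (Localization.Away f) f).ge hf, ?_⟩
    have : Smooth (i ≫ (pt j B).hom) := by
      have : Smooth (Spec.map (CommRingCat.ofHom (algebraMap R (Localization.Away f)))) :=
        (HasRingHomProperty.Spec_iff (P := @Smooth)).2 (RingHom.smooth_algebraMap.2 hsmf)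
      have e : i ≫ (pt j B).hom = Spec.map (CommRingCat.ofHom (algebraMap R (Localization.Away f))) ≫ j := by
        change i ≫ Spec.map (CommRingCat.ofHom (algebraMap R B)) ≫ j = _
        rw [← Category.assoc, ← Spec.map_comp, ← CommRingCat.ofHom_comp, ← IsScalarTower.algebraMap_eq]
      rw [e]
      infer_instance
    rw [← i.isoOpensRange_inv_comp, Category.assoc]
    infer_instance
  · change j (Spec.map (CommRingCat.ofHom (algebraMap R B)) z) = j p
    congr 1
    refine PrimeSpectrum.ext ?_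
    change (RingHom.ker χ).comap (algebraMap R B) = p.asIdeal
    refine Eq.trans ?_ (Ideal.ker_algebraMap_residueField p.asIdeal)
    ext x
    rw [Ideal.mem_comap, RingHom.mem_ker, RingHom.mem_ker, AlgHom.commutes]

/-- An affine flat lfp group acts freely on a smooth surjective scheme over the base. -/
theorem exists_free_cover (G : Over S) [GrpObj G] [IsAffineHom G.hom] [Flat G.hom]
    [LocallyOfFinitePresentation G.hom] :
    ∃ (E : Over S) (a : AlgGrp.Action G E), PtFree a ∧ Smooth E.hom ∧ Surjective E.hom := by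
  have hloc : ∀ s : S, ∃ (E : Over S) (a : AlgGrp.Action G E), PtFree a ∧ Smooth E.hom ∧ s ∈ Set.range E.hom := by
    intro s
    obtain ⟨U, hU, hsU, -⟩ := exists_isAffineOpen_mem_and_subset (X := S) (x := s) (U := ⊤) trivial
    obtain ⟨E, _, a, ha, z, hz, hzs⟩ := exists_free_chart (G := G) hU.fromSpec (hU.primeIdealOf ⟨s, hsU⟩)
    rw [hU.fromSpec_primeIdealOf] at hzs
    obtain ⟨a', ha'⟩ := ActOps.exists_smoothLocus_action a ha
    refine ⟨_, a', ha', ?_, ⟨z, hz⟩, hzs⟩
    change Smooth (E.hom.smoothLocus.ι ≫ E.hom)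
    rw [← Scheme.Hom.smoothLocus_eq_top_iff]
    exact (Scheme.Hom.preimage_smoothLocus_eq E.hom.smoothLocus.ι E.hom).symm.trans (by simp)
  choose E a ha hsm hr using hloc
  obtain ⟨a', ha'⟩ := ActOps.exists_sigma_action a ha
  have : IsZariskiLocalAtSource (@Smooth : MorphismProperty Scheme.{u}) :=
    @HasRingHomProperty.instIsZariskiLocalAtSource _ _ (inferInstance : HasRingHomProperty (@Smooth : MorphismProperty Scheme.{u}) (fun {R S} _ _ f => RingHom.Smooth f))
  refine ⟨_, a', ha', IsZariskiLocalAtSource.sigmaDesc (P := @Smooth) (f := fun i => (E i).hom) hsm, ⟨fun s => ?_⟩⟩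
  obtain ⟨y, hy⟩ := hr s
  refine ⟨(Sigma.ι (fun i => (E i).left) s) y, ?_⟩
  rw [← Scheme.Hom.comp_apply]
  exact (congrArg (fun f : (E s).left ⟶ S => f y) (Sigma.ι_desc (fun i => (E i).hom) s)).trans hy

end Groth.Agent.Lib.ArtinAtlas
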