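import Groth.Agent.Lib.ArtinAtlas.ActionOps
import Groth.Agent.Lib.Bootstrap.SpQuot
import Groth.Agent.Lib.Bootstrap.Quot
import Groth.Agent.Lib.QuotSt.Atlas

/-!
# An object of `[X/G]` with smooth surjective map to `X` from a free action
-/

set_option autoImplicit false
set_option linter.style.haveILetI false

universe u

open CategoryTheory CategoryTheory.Limits MonoidalCategory CartesianMonoidalCategory AlgebraicGeometry
open scoped MonObj

namespace Groth.Agent.Lib.ArtinAtlas

open AlgSp (yon RepWith IsEqvRel)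

variable {S : Scheme.{u}} {G : Over S} [GrpObj G]

/-- The diagonal action on a product. -/
noncomputable def diagAction {E X : Over S} (a : AlgGrp.Action G E) (b : AlgGrp.Action G X) :
    AlgGrp.Action G (E ⊗ X) where
  act := lift ((G ◁ fst E X) ≫ a.act) ((G ◁ snd E X) ≫ b.act)
  one_act := by
    apply CartesianMonoidalCategory.hom_ext
    · rw [Category.assoc, lift_fst, ← whisker_exchange_assoc, a.one_act, id_whiskerLeft]
      simp
    · rw [Category.assoc, lift_snd, ← whisker_exchange_assoc, b.one_act, id_whiskerLeft]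
      simp
  mul_act := by
    apply CartesianMonoidalCategory.hom_ext
    · simp only [Category.assoc, lift_fst, ← whiskerLeft_comp_assoc]
      rw [whiskerLeft_comp_assoc, ← whisker_exchange_assoc, a.mul_act]
      simp [tensor_whiskerLeft]
    · simp only [Category.assoc, lift_snd, ← whiskerLeft_comp_assoc]
      rw [whiskerLeft_comp_assoc, ← whisker_exchange_assoc, b.mul_act]
      simp [tensor_whiskerLeft]

theorem diagAction_snd {E X : Over S} (a : AlgGrp.Action G E) (b : AlgGrp.Action G X) :
    (diagAction a b).act ≫ snd E X = (G ◁ snd E X) ≫ b.act := lift_snd _ _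

theorem ptFree_diagAction {E X : Over S} {a : AlgGrp.Action G E} (b : AlgGrp.Action G X)
    (ha : PtFree a) : PtFree (diagAction a b) := fun T g x h => by
  refine ha T g (x ≫ fst E X) ?_
  have := congrArg (· ≫ fst E X) h
  simp only [Category.assoc, diagAction, lift_fst] at this
  rwa [lift_whiskerLeft_assoc] at this

theorem isEqvRel_of_ptFree {Y : Over S} (a : AlgGrp.Action G Y) (ha : PtFree a) :
    IsEqvRel (snd G Y) a.act where
  injective T r r' ht hs := by
    have hr : ∀ z : T ⟶ G ⊗ Y, z ≫ a.act = lift (z ≫ fst G Y) (z ≫ snd G Y) ≫ a.act := fun z => by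
      rw [← comp_lift, lift_fst_snd, Category.comp_id]
    rw [hr r, hr r', ← hs] at ht
    have h1 := congrArg (fun z => lift (r' ≫ fst G Y)⁻¹ z ≫ a.act) ht
    simp only [← ActOps.mul_smul, inv_mul_cancel, ActOps.one_smul] at h1
    have h2 := ha T _ _ h1
    refine CartesianMonoidalCategory.hom_ext _ _ ?_ hs
    exact (inv_mul_eq_one.1 h2).symm
  equivalence T :=
    { refl := fun x => ⟨lift (1 : T ⟶ G) x, ActOps.one_smul a x, lift_snd _ _⟩
      symm := by
        rintro x y ⟨r, h1, h2⟩
        refine ⟨lift (r ≫ fst G Y)⁻¹ x, ?_, lift_snd _ _⟩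
        rw [← h1, ← h2]
        conv_lhs => arg 1; arg 2; rw [← Category.comp_id r, ← lift_fst_snd, comp_lift]
        rw [← ActOps.mul_smul, inv_mul_cancel, ActOps.one_smul]
      trans := by
        rintro x y z ⟨r, h1, h2⟩ ⟨r', h1', h2'⟩
        refine ⟨lift (r ≫ fst G Y * r' ≫ fst G Y) z, ?_, lift_snd _ _⟩
        rw [ActOps.mul_smul, ← h1, ← h2']
        have e : lift (r' ≫ fst G Y) (r' ≫ snd G Y) ≫ a.act = r ≫ snd G Y := by
          rw [← comp_lift, lift_fst_snd, Category.comp_id, h1', h2]
        rw [e, ← comp_lift, lift_fst_snd, Category.comp_id] }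

theorem act_eq_shear {Y : Over S} (a : AlgGrp.Action G Y) :
    a.act = (ActOps.shear a).hom ≫ snd G Y := (lift_snd _ _).symm

/-- A morphism into a fibre product of representable sheaves. -/
theorem exists_yon_lift {F : AlgSp.Sp S} {P Y U : Over S} {i : P ⟶ Y} {π : P ⟶ U}
    {q : (yon S).obj Y ⟶ F} {p : (yon S).obj U ⟶ F}
    (sq : IsPullback ((yon S).map i) ((yon S).map π) q p) {Z : Over S} (x : Z ⟶ Y) (y : Z ⟶ U)
    (w : (yon S).map x ≫ q = (yon S).map y ≫ p) : ∃ l : Z ⟶ P, l ≫ i = x ∧ l ≫ π = y := by
  obtain ⟨l, hl⟩ := (yon S).map_surjective (sq.lift _ _ w)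
  exact ⟨l, (yon S).map_injective (by rw [Functor.map_comp, hl, sq.lift_fst]),
    (yon S).map_injective (by rw [Functor.map_comp, hl, sq.lift_snd])⟩

theorem yon_hom_ext {F : AlgSp.Sp S} {P Y U : Over S} {i : P ⟶ Y} {π : P ⟶ U}
    {q : (yon S).obj Y ⟶ F} {p : (yon S).obj U ⟶ F}
    (sq : IsPullback ((yon S).map i) ((yon S).map π) q p) {Z : Over S} {x y : Z ⟶ P}
    (h₁ : x ≫ i = y ≫ i) (h₂ : x ≫ π = y ≫ π) : x = y :=
  (yon S).map_injective (sq.hom_ext (by rw [← Functor.map_comp, ← Functor.map_comp, h₁])
    (by rw [← Functor.map_comp, ← Functor.map_comp, h₂]))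

variable {Y : Over S} (a : AlgGrp.Action G Y) {F : AlgSp.Sp S} {q : (yon S).obj Y ⟶ F}
  {U P : Over S} {p : (yon S).obj U ⟶ F} {i : P ⟶ Y} {π : P ⟶ U}

theorem act_condition (hk : IsPullback ((yon S).map a.act) ((yon S).map (snd G Y)) q q)
    (sq : IsPullback ((yon S).map i) ((yon S).map π) q p) :
    (yon S).map ((G ◁ i) ≫ a.act) ≫ q = (yon S).map (snd G P ≫ π) ≫ p := by
  rw [Functor.map_comp, Functor.map_comp, Category.assoc, Category.assoc, hk.w, ← sq.w,
    ← Functor.map_comp_assoc, ← Functor.map_comp_assoc, whiskerLeft_snd]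

/-- The action on a base change of a free quotient. -/
noncomputable def pullAction (hk : IsPullback ((yon S).map a.act) ((yon S).map (snd G Y)) q q)
    (sq : IsPullback ((yon S).map i) ((yon S).map π) q p) : AlgGrp.Action G P where
  act := (exists_yon_lift sq _ _ (act_condition a hk sq)).choose
  one_act := by
    obtain ⟨e1, e2⟩ := (exists_yon_lift sq _ _ (act_condition a hk sq)).choose_spec
    refine yon_hom_ext sq ?_ ?_
    · rw [Category.assoc, e1, ← whisker_exchange_assoc, a.one_act, id_whiskerLeft]
      simp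
    · rw [Category.assoc, e2]
      simp [leftUnitor_hom]
  mul_act := by
    obtain ⟨e1, e2⟩ := (exists_yon_lift sq _ _ (act_condition a hk sq)).choose_spec
    refine yon_hom_ext sq ?_ ?_
    · simp only [Category.assoc, e1, ← whiskerLeft_comp_assoc]
      rw [whiskerLeft_comp_assoc, ← whisker_exchange_assoc, a.mul_act]
      simp [tensor_whiskerLeft]
    · simp [e2]

theorem pullAction_fst (hk : IsPullback ((yon S).map a.act) ((yon S).map (snd G Y)) q q)
    (sq : IsPullback ((yon S).map i) ((yon S).map π) q p) :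
    (pullAction a hk sq).act ≫ i = (G ◁ i) ≫ a.act :=
  (exists_yon_lift sq _ _ (act_condition a hk sq)).choose_spec.1

theorem pullAction_snd (hk : IsPullback ((yon S).map a.act) ((yon S).map (snd G Y)) q q)
    (sq : IsPullback ((yon S).map i) ((yon S).map π) q p) :
    (pullAction a hk sq).act ≫ π = snd G P ≫ π :=
  (exists_yon_lift sq _ _ (act_condition a hk sq)).choose_spec.2

theorem isPullback_pullAction (ha : PtFree a)
    (hk : IsPullback ((yon S).map a.act) ((yon S).map (snd G Y)) q q)
    (sq : IsPullback ((yon S).map i) ((yon S).map π) q p) :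
    IsPullback (pullAction a hk sq).act (snd G P) π π := by
  refine ⟨⟨pullAction_snd a hk sq⟩, ⟨PullbackCone.IsLimit.mk _ (fun c => ?_) ?_ ?_ ?_⟩⟩
  all_goals
    have hex : ∀ c : PullbackCone π π, ∃ g : c.pt ⟶ G,
        lift g c.snd ≫ (pullAction a hk sq).act = c.fst := fun c => by
      obtain ⟨r, hr⟩ := (yon S).map_surjective (hk.lift ((yon S).map (c.fst ≫ i))
        ((yon S).map (c.snd ≫ i)) (by
          rw [Functor.map_comp, Functor.map_comp, Category.assoc, Category.assoc, sq.w,
            ← Functor.map_comp_assoc, ← Functor.map_comp_assoc, c.condition]))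
      have h1 : r ≫ a.act = c.fst ≫ i :=
        (yon S).map_injective (by rw [Functor.map_comp, hr, hk.lift_fst])
      have h2 : r ≫ snd G Y = c.snd ≫ i :=
        (yon S).map_injective (by rw [Functor.map_comp, hr, hk.lift_snd])
      refine ⟨r ≫ fst G Y, yon_hom_ext sq ?_ ?_⟩
      · rw [Category.assoc, pullAction_fst, lift_whiskerLeft_assoc, ← h2, ← comp_lift,
          lift_fst_snd, Category.comp_id, h1]
      · rw [Category.assoc, pullAction_snd, lift_snd_assoc, c.condition]
  · exact lift (hex c).choose c.snd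
  · exact fun c => (hex c).choose_spec
  · exact fun c => lift_snd _ _
  · intro c m h1 h2
    apply CartesianMonoidalCategory.hom_ext
    · rw [lift_fst]
      have e := (hex c).choose_spec
      generalize (hex c).choose = g at e ⊢
      have key : lift (m ≫ fst G P) (c.snd ≫ i) = lift g (c.snd ≫ i) := by
        refine (isEqvRel_of_ptFree a ha).injective _ _ _ ?_ (by rw [lift_snd, lift_snd])
        have e1 := congrArg (· ≫ i) e
        have e2 := congrArg (· ≫ i) h1
        simp only [Category.assoc, pullAction_fst, lift_whiskerLeft_assoc] at e1 e2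
        rw [e1, ← e2]
        rw [← h2, ← Category.assoc]
        congr 1
        apply CartesianMonoidalCategory.hom_ext <;> simp
      simpa only [lift_fst] using congrArg (· ≫ fst G Y) key
    · rw [lift_snd]
      exact h2

/-- An object of `[X/G]` whose map to `X` is smooth and surjective. -/
theorem exists_smooth_object [IsAffineHom G.hom] [Flat G.hom] [LocallyOfFinitePresentation G.hom]
    {E X : Over S} (aE : AlgGrp.Action G E) (hE : PtFree aE) (hsm : Smooth E.hom)
    (hsur : Surjective E.hom) (aX : AlgGrp.Action G X) :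
    ∃ A : AlgSt.QuotObj Scheme.fppfPrecoverage G aX, Smooth A.φ.left ∧ Surjective A.φ.left ∧
      Flat A.π.left ∧ LocallyOfFinitePresentation A.π.left ∧ Surjective A.π.left := by
  let a := diagAction aE aX
  have ha : PtFree a := ptFree_diagAction aX hE
  have h := isEqvRel_of_ptFree a ha
  have : Flat (snd G (E ⊗ X)).left := MorphismProperty.of_isPullback (P := @Flat) (IsPullback.of_hasPullback G.hom (E ⊗ X).hom) ‹_›
  have : LocallyOfFinitePresentation (snd G (E ⊗ X)).left :=
    MorphismProperty.of_isPullback (P := @LocallyOfFinitePresentation) (IsPullback.of_hasPullback G.hom (E ⊗ X).hom) ‹_›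
  have : IsIso (ActOps.shear a).hom.left :=
    inferInstanceAs (IsIso ((Over.forget S).map (ActOps.shear a).hom))
  have e := congrArg (fun f => f.left) (act_eq_shear a)
  simp only [Over.comp_left] at e
  have : Flat a.act.left := e ▸ inferInstanceAs (Flat ((ActOps.shear a).hom.left ≫ (snd G (E ⊗ X)).left))
  have : LocallyOfFinitePresentation a.act.left := e ▸
    inferInstanceAs (LocallyOfFinitePresentation ((ActOps.shear a).hom.left ≫ (snd G (E ⊗ X)).left))
  have hF := Bootstrap.isAlgSpace_quot h
  have hk := AlgSpace.isPullback_quot h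
  have := AlgSpace.isLocallySurjective_quotMap (snd G (E ⊗ X)) a.act
  have hq := AlgSpace.representable_from_yon hF.diag (AlgSpace.quotMap (snd G (E ⊗ X)) a.act)
  obtain ⟨U, p, hpe, hps⟩ := hF.atlas
  obtain ⟨P, i, π, sq⟩ := AlgSpace.exists_isPullback_yon hF.diag (AlgSpace.quotMap (snd G (E ⊗ X)) a.act) p
  haveI := Bootstrap.isLocalAtTarget_fppf_flat.{u}
  haveI := Bootstrap.isLocalAtTarget_fppf_lfp.{u}
  haveI := AlgSpace.isLocalAtTarget_fppf_surjective.{u}
  have hπ₁ : Flat π.left := AlgSpace.repWith_property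
    (AlgSpace.repWith_of_isLocallySurjective hq _ hk @Flat ((AlgSp.repWith_yon_map_iff _ _).2 ‹_›)) sq
  have hπ₂ : LocallyOfFinitePresentation π.left := AlgSpace.repWith_property
    (AlgSpace.repWith_of_isLocallySurjective hq _ hk @LocallyOfFinitePresentation
      ((AlgSp.repWith_yon_map_iff _ _).2 ‹_›)) sq
  have hπ₃ : Surjective π.left := AlgSpace.repWith_property
    (AlgSpace.repWith_of_isLocallySurjective hq _ hk @Surjective
      ((AlgSp.repWith_yon_map_iff _ _).2 (AlgSpace.surjective_left_of_eqvRel h).2)) sq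
  have hi₁ : Etale i.left := AlgSpace.repWith_property hpe sq.flip
  have hi₂ : Surjective i.left := AlgSpace.repWith_property hps sq.flip
  have hp₁ : Smooth (snd E X).left := MorphismProperty.of_isPullback (P := @Smooth) (IsPullback.of_hasPullback E.hom X.hom) hsm
  have hp₂ : Surjective (snd E X).left := MorphismProperty.of_isPullback (P := @Surjective) (IsPullback.of_hasPullback E.hom X.hom) hsur
  refine ⟨{ base := U, P := P, act := pullAction a hk sq, π := π,
            cart := isPullback_pullAction a ha hk sq,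
            loc := ⟨Presieve.singleton π.left, ?_, ?_⟩, φ := i ≫ snd E X, eqv := ?_ },
    ?_, ?_, hπ₁, hπ₂, hπ₃⟩
  · rw [Scheme.fppfPrecoverage, Scheme.singleton_mem_precoverage_iff]
    exact ⟨hπ₃.surj, hπ₁, hπ₂⟩
  · rintro Z g ⟨⟩
    exact ⟨𝟙 _, Category.id_comp _⟩
  · rw [← Category.assoc, pullAction_fst, Category.assoc, diagAction_snd, whiskerLeft_comp,
      Category.assoc]
  · exact inferInstanceAs (Smooth (i.left ≫ (snd E X).left))
  · exact inferInstanceAs (Surjective (i.left ≫ (snd E X).left))

end Groth.Agent.Lib.ArtinAtlas
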