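import Groth.Agent.Lib.QuotSt.Atlas
import Groth.Agent.Lib.AlgStack.Bootstrap
import Groth.Agent.Lib.AlgStack.Descend
import Groth.Agent.Lib.AlgStack.SliceEtale
import Groth.Agent.Lib.Bootstrap.Descent
import Groth.Agent.Lib.AlgSpFpqc.LocP
import Groth.Agent.Lib.AlgSpFpqc.FppfCover
import Groth.Agent.Lib.ArtinAtlas.FreeCover
import Groth.Agent.Lib.ArtinAtlas.QuotAtlas
import Groth.Agent.S13572

/-!
# Objects of `[X/G]` with smooth surjective map to `X` give smooth surjective charts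
-/

set_option autoImplicit false
set_option backward.isDefEq.respectTransparency false
set_option backward.isDefEq.respectTransparency.types false

universe u

open CategoryTheory CategoryTheory.Limits AlgebraicGeometry Opposite MonoidalCategory

namespace Groth.Agent.Lib.ArtinAtlas

open AlgStack AlgStack.BasedBasic AlgStack.Yoneda AlgStack.FibProd AlgStack.Rep AlgStack.Space AlgStack.IsAlgFp
open AlgStack.OfPsh AlgStack.CompRep
open FibCat (IsEquivOver IsFibGrpd fp fpFst fpSnd fpIso overCat toSelf)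
open AlgSt (QuotObj QuotSt ofSp ofSpMap ofOverCat toOverCat overMap RepByAlgSp RepByAlgSp1 RepByAlgSpWith)
open AlgSp (Sp yon IsAlgSpace RepWith LocP)

variable {S : Scheme.{u}}

/-- A setoidal stack over a scheme is a space if it is after an fppf cover. -/
theorem repByAlgSp_of_fppfCover {𝒵 : AlgSt.Cat S} (h : Stk.IsStack (AlgSp.J S) 𝒵) (hs : Setoidal 𝒵)
    {T T' : Over S} (c : T' ⟶ T) (hcf : Flat c.left) (hcp : LocallyOfFinitePresentation c.left)
    (hcs : Surjective c.left) (f : 𝒵 ⥤ᵇ overCat T) (hrep : RepByAlgSp (fp (overMap c) f)) :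
    RepByAlgSp 𝒵 := by
  have hE := isEquivOver_toIsoPsh h.1 hs
  have hF : Presheaf.IsSheaf (AlgSp.J S) (isoPsh h.1) :=
    (isSheaf_iff_isSheaf_of_type _ _).2
      ((StkBasic.isStack_ofPsh_iff _ _).1 (StkBasic.isStack_of_isEquivOver hE h))
  let F : Sp S := ⟨_, hF⟩
  obtain ⟨e₀, he₀, -, -⟩ := BasedBasic.IsEquivOver.exists_inverse hE
  let e : ofSp F ⥤ᵇ 𝒵 := e₀
  let β : F ⟶ (yon S).obj T := spHom (BasedFunctor.comp (BasedFunctor.comp e f) (ofOverCat T))
  have := BasedBasic.IsEquivOver.full (isEquivOver_toOverCat T)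
  have := BasedBasic.IsEquivOver.faithful (isEquivOver_toOverCat T)
  have h1 := isEquivOver_fpMap (toOverCat T') e (toOverCat T)
    (F := overMap c) (G := f) (F' := ofSpMap ((yon S).map c)) (G' := ofSpMap β)
    (eqToIso rfl)
    (BasedBasic.isoWhiskerRight
      (isoOfPshMap (BasedFunctor.comp (BasedFunctor.comp e f) (ofOverCat T))) (toOverCat T))
    (isEquivOver_toOverCat T') he₀
  have sq := IsPullback.of_hasPullback β ((yon S).map c)
  have h2 := BasedBasic.IsEquivOver.comp (isEquivOver_sqLift (sq.flip.map (sheafToPresheaf _ _))) h1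
  obtain ⟨A, eA, hA⟩ := hrep
  obtain ⟨g, hg, -, -⟩ := BasedBasic.IsEquivOver.exists_inverse h2
  let Φ : ofSp A.obj ⥤ᵇ ofSp (pullback β ((yon S).map c)) := BasedFunctor.comp eA g
  have := isIso_spHom (Φ := Φ) (BasedBasic.IsEquivOver.comp hA hg)
  have hF' : IsAlgSpace (pullback β ((yon S).map c)) :=
    IsAlgSpace.of_iso A.property (asIso (spHom Φ))
  exact ⟨⟨F, Lib.Bootstrap.isAlgSpace_of_fppf_baseChange (IsAlgSpace.yon_obj T) (IsAlgSpace.yon_obj T')
    (g := (yon S).map c) (QuotSt.isSurjectiveMor_yon_map c hcs)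
    (Lib.AlgSpMor.LocP.locP_of_repWith Lib.SourceDescent.Scheme.flat ((AlgSp.repWith_yon_map_iff _ c).2 hcf))
    (Lib.AlgSpMor.LocP.locP_of_repWith Lib.SourceDescent.Scheme.locallyOfFinitePresentation
      ((AlgSp.repWith_yon_map_iff _ c).2 hcp)) sq hF'⟩, e, he₀⟩

variable {G X : Over S} [GrpObj G] [IsAffineHom G.hom] [Flat G.hom] [LocallyOfFinitePresentation G.hom]
  {aX : AlgGrp.Action G X}

omit [IsAffineHom G.hom] [Flat G.hom] [LocallyOfFinitePresentation G.hom] in
/-- The torsor of a map as a base change of the atlas. -/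
theorem isEquivOver_torsor_swap {T : Over S} (y : overCat T ⥤ᵇ QuotSt Scheme.fppfPrecoverage G aX) :
    IsEquivOver (BasedFunctor.comp (QuotSt.torsorLift y) (swap y (QuotSt.atlas Scheme.fppfPrecoverage aX))) :=
  BasedBasic.IsEquivOver.comp (QuotSt.isEquivOver_torsorLift y) (isEquivOver_swap _ _)

/-- Maps from schemes to `[X/G]` are representable by algebraic spaces. -/
theorem repByAlgSp1_map {U : Over S} (y : overCat U ⥤ᵇ QuotSt Scheme.fppfPrecoverage G aX) :
    RepByAlgSp1 y := fun V y' => by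
  have hK := Scheme.fppfPrecoverage_le_fpqcPrecoverage.{u}
  have hst := QuotSt.isStack (G := G) (aX := aX) (K := Scheme.fppfPrecoverage) le_rfl
  have hs' : Stk.IsStack (AlgSp.J S) (fp y' y) := StkFp.isStack_fp
    (StkRep.isStack_of_repByAlgSp (Diag.repByAlgSp_overCat V))
    (StkRep.isStack_of_repByAlgSp (Diag.repByAlgSp_overCat U))
    ⟨hst.1, fun W R hR => by
      have : (Stk.resSieve R (QuotSt Scheme.fppfPrecoverage G aX)).IsEquivalence := hst.2 R hR
      exact ⟨inferInstance, inferInstance⟩⟩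
  have : (overCat U).p.Faithful := inferInstanceAs (Over.forget U).Faithful
  have : y.toFunctor.Faithful := Functor.Faithful.of_comp_eq y.w
  let c := QuotSt.proj y'
  let E : BasedFunctor.comp (overMap c) y' ≅
      BasedFunctor.comp (overMap (QuotSt.obj₀ y').φ) (QuotSt.atlas Scheme.fppfPrecoverage aX) :=
    BasedBasic.isoWhiskerLeft (QuotSt.torsorLift y') (fpIso y' (QuotSt.atlas Scheme.fppfPrecoverage aX))
  have hxu : RepByAlgSp (fp (QuotSt.atlas Scheme.fppfPrecoverage aX) y) :=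
    repByAlgSp_of_equiv (isEquivOver_torsor_swap y) (Diag.repByAlgSp_overCat _)
  have hmu : RepByAlgSp (fp (BasedFunctor.comp (overMap (QuotSt.obj₀ y').φ)
      (QuotSt.atlas Scheme.fppfPrecoverage aX)) y) :=
    repByAlgSp_of_equiv (isEquivOver_pasteBase _ _ y)
      (Diag.repByAlgSp_fp (Diag.repByAlgSp_overCat _) hxu (Diag.repByAlgSp_overCat X) _ (fpFst _ y))
  have hcy : RepByAlgSp (fp (BasedFunctor.comp (overMap c) y') y) :=
    repByAlgSp_of_equiv' (isEquivOver_congrLeft E y) hmu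
  exact repByAlgSp_of_fppfCover hs' (setoidal_fp_of_faithful fun a φ h => Over.OverMorphism.ext h) c
    (QuotSt.property_proj (P := @Flat) y' hK ‹_›)
    (QuotSt.property_proj (P := @LocallyOfFinitePresentation) y' hK ‹_›)
    (QuotSt.surjective_proj hK y') (fpFst y' y)
    (repByAlgSp_of_equiv' (isEquivOver_pasteBase (overMap c) y' y) hcy)

/-- A map from a scheme to `[X/G]` has a fppf local property of its map to `X`. -/
theorem repByAlgSpWith_map {P : MorphismProperty (Sp S)} (hl : AlgSp.IsLocalOnBase AlgSp.IsFppfCover P)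
    (hPb : ∀ ⦃X₁ Y₁ X₂ Y₂ : Sp S⦄, IsAlgSpace X₁ → IsAlgSpace Y₁ → IsAlgSpace X₂ →
      IsAlgSpace Y₂ → ∀ (a : X₁ ⟶ Y₁) (b : Y₂ ⟶ Y₁) (a' : X₂ ⟶ Y₂) (b' : X₂ ⟶ X₁),
      IsPullback b' a' a b → P a → P a')
    {U : Over S} (y : overCat U ⥤ᵇ QuotSt Scheme.fppfPrecoverage G aX)
    (hy : P ((yon S).map (QuotSt.obj₀ y).φ)) : RepByAlgSpWith P y := by
  obtain ⟨h1, h2, h3⟩ := S13572.result G X aX
  refine AlgStack.Descend.repByAlgSpWith_of_cover (respectsIsoSp_of_baseChange hPb) hl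
    (isFibGrpd_overCat U) QuotSt.isFibGrpd (isFibGrpd_overCat X) (repByAlgSp1_map y) h1 h2 h3 ?_
  refine (repByAlgSpWith_iff_of_isEquivOver
    (f := fpFst (QuotSt.atlas Scheme.fppfPrecoverage aX) y)
    (f' := BasedFunctor.comp (ofSpMap ((yon S).map (QuotSt.obj₀ y).φ)) (toOverCat X))
    (a := BasedFunctor.comp (toOverCat _) (BasedFunctor.comp (QuotSt.torsorLift y)
      (swap y (QuotSt.atlas Scheme.fppfPrecoverage aX))))
    (BasedBasic.IsEquivOver.comp (isEquivOver_toOverCat _) (isEquivOver_torsor_swap y))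
    BasedBasic.isEquivOver_id (eqToIso rfl)).2 ?_
  exact (repByAlgSpWith_iff_of_isEquivOver
    (f := BasedFunctor.comp (ofSpMap ((yon S).map (QuotSt.obj₀ y).φ)) (toOverCat X))
    (f' := ofSpMap ((yon S).map (QuotSt.obj₀ y).φ))
    BasedBasic.isEquivOver_id (isEquivOver_toOverCat X) (eqToIso rfl)).2
    (AlgStack.Descend.repByAlgSpWith_ofSpMap hPb (IsAlgSpace.yon_obj _) (IsAlgSpace.yon_obj _) hy)

theorem isLocalOnBase_surjective :
    AlgSp.IsLocalOnBase (AlgSp.IsFppfCover (S := S)) AlgSp.IsSurjectiveMor := by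
  intro ι Y Yi g hY hYi hg Z f hZ Xi p q hXi sq
  refine ⟨fun h i z => by
      obtain ⟨x, hx⟩ := h (AlgSp.Points.map (g i) z)
      obtain ⟨w, -, hw⟩ := AlgSpace.exists_of_isPullback (sq i) x z hx
      exact ⟨w, hw⟩,
    fun h y => ?_⟩
  obtain ⟨i, z, rfl⟩ := hg.2 y
  obtain ⟨x, rfl⟩ := h i z
  exact ⟨AlgSp.Points.map (q i) x, by rw [← AlgSp.Points.map_comp, (sq i).w, AlgSp.Points.map_comp]⟩

theorem repByAlgSpWith_map_smooth {U : Over S} (y : overCat U ⥤ᵇ QuotSt Scheme.fppfPrecoverage G aX)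
    (hy : Smooth (QuotSt.obj₀ y).φ.left) : RepByAlgSpWith (LocP @Smooth) y :=
  repByAlgSpWith_map
    (fun _ _ Yi g hY hYi hg => Lib.AlgSpFpqc.LocP.isLocalOnBase Lib.SourceDescent.Scheme.smooth
      inferInstance inferInstance Yi g hY hYi (Lib.AlgSpFpqc.FppfCover.isFpqcCover hg hY hYi))
    (fun _ _ _ _ hX₁ hY₁ _ hY₂ _ _ _ _ sq ha =>
      Lib.AlgSpMor.LocP.locP_of_isPullback Lib.SourceDescent.Scheme.smooth hX₁ hY₁ hY₂ sq ha) y
    (Lib.AlgSpMor.LocP.locP_of_repWith Lib.SourceDescent.Scheme.smooth ((AlgSp.repWith_yon_map_iff _ _).2 hy))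

theorem repByAlgSpWith_map_surjective {U : Over S} (y : overCat U ⥤ᵇ QuotSt Scheme.fppfPrecoverage G aX)
    (hy : Surjective (QuotSt.obj₀ y).φ.left) : RepByAlgSpWith AlgSp.IsSurjectiveMor y :=
  repByAlgSpWith_map isLocalOnBase_surjective (fun _ _ _ _ _ _ _ _ a b a' b' sq ha z => by
    obtain ⟨x, hx⟩ := ha (AlgSp.Points.map b z)
    obtain ⟨w, -, hw⟩ := AlgSpace.exists_of_isPullback sq x z hx
    exact ⟨w, hw⟩) y
    (QuotSt.isSurjectiveMor_yon_map _ hy)

/-- An object with smooth surjective map to `X` gives a smooth surjective chart. -/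
theorem exists_chart (A : QuotObj Scheme.fppfPrecoverage G aX) (h₁ : Smooth A.φ.left)
    (h₂ : Surjective A.φ.left) :
    ∃ y : overCat A.base ⥤ᵇ QuotSt Scheme.fppfPrecoverage G aX,
      RepByAlgSpWith (LocP @Smooth) y ∧ RepByAlgSpWith AlgSp.IsSurjectiveMor y := by
  let y : overCat A.base ⥤ᵇ QuotSt Scheme.fppfPrecoverage G aX :=
    AlgStack.Yoneda.fromObj (QuotSt.isFibGrpd (K := Scheme.fppfPrecoverage) (G := G) (aX := aX)) (z := A) rfl
  obtain ⟨e, -⟩ := AlgStack.Yoneda.exists_fromObj_iso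
    (QuotSt.isFibGrpd (K := Scheme.fppfPrecoverage) (G := G) (aX := aX)) (z := A) rfl
  have e₂ : e.hom.top ≫ A.φ = (QuotSt.obj₀ y).φ := e.hom.wφ
  have hiso : IsIso e.hom.top := ⟨e.inv.top, by rw [← QuotObj.comp_top, e.hom_inv_id]; rfl,
    by rw [← QuotObj.comp_top, e.inv_hom_id]; rfl⟩
  have : IsIso e.hom.top.left := inferInstanceAs (IsIso ((Over.forget S).map e.hom.top))
  refine ⟨y, repByAlgSpWith_map_smooth y ?_, repByAlgSpWith_map_surjective y ?_⟩
  · rw [← e₂, Over.comp_left]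
    infer_instance
  · rw [← e₂, Over.comp_left]
    infer_instance

omit [IsAffineHom G.hom] [Flat G.hom] [LocallyOfFinitePresentation G.hom] in
/-- `[X/G]` has an atlas with smooth surjective map to `X` up to a flat cover. -/
theorem exists_atlas (aX : AlgGrp.Action G X) (hG : IsAffineHom G.hom) (hfl : Flat G.hom)
    (hfp : LocallyOfFinitePresentation G.hom) :
    ∃ (A : QuotObj Scheme.fppfPrecoverage G aX)
      (y : overCat A.base ⥤ᵇ QuotSt Scheme.fppfPrecoverage G aX),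
      Smooth A.φ.left ∧ Surjective A.φ.left ∧ Flat A.π.left ∧
        LocallyOfFinitePresentation A.π.left ∧ Surjective A.π.left ∧
      RepByAlgSpWith (LocP @Smooth) y ∧ RepByAlgSpWith AlgSp.IsSurjectiveMor y := by
  obtain ⟨E, aE, hE, hsm, hsur⟩ := exists_free_cover G
  obtain ⟨A, h1, h2, h3, h4, h5⟩ := exists_smooth_object aE hE hsm hsur aX
  obtain ⟨y, hy₁, hy₂⟩ := exists_chart A h1 h2
  exact ⟨A, y, h1, h2, h3, h4, h5, hy₁, hy₂⟩

/-- `[X/G]` is an algebraic stack for `G` affine, flat, locally of finite presentation. -/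
theorem isAlgStack_quot (aX : AlgGrp.Action G X) :
    AlgSt.IsAlgStack Scheme.fppfPrecoverage (QuotSt Scheme.fppfPrecoverage G aX) := by
  obtain ⟨A, y, -, -, -, -, -, h1, h2⟩ := exists_atlas aX ‹_› ‹_› ‹_›
  exact AlgStack.Bootstrap.isAlgStack_of_stack_atlas (QuotSt.isStack le_rfl) ⟨A.base, y, h1, h2⟩

end Groth.Agent.Lib.ArtinAtlas
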