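import Groth.Agent.H75.BaseChange.Nhd
import Groth.Prelude.Def_AlgGrp
import Mathlib.AlgebraicGeometry.Limits
import Groth.Prelude.Def_AlgSt5

/-!
# The smooth locus of an action; disjoint unions of actions
-/

set_option autoImplicit false

universe u

open CategoryTheory CategoryTheory.Limits MonoidalCategory CartesianMonoidalCategory AlgebraicGeometry
open scoped MonObj

namespace Groth.Agent.Lib.ArtinAtlas

variable {S : Scheme.{u}} {G : Over S} [GrpObj G]

/-- An action has free points. -/
def PtFree {E : Over S} (a : AlgGrp.Action G E) : Prop :=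
  ∀ (T : Over S) (g : T ⟶ G) (x : T ⟶ E), lift g x ≫ a.act = x → g = 1

namespace ActOps

theorem one_smul {E : Over S} (a : AlgGrp.Action G E) {T : Over S} (x : T ⟶ E) :
    lift (1 : T ⟶ G) x ≫ a.act = x := by
  have h : lift (1 : T ⟶ G) x = lift (toUnit T) x ≫ (η[G] ▷ E) := by
    rw [lift_whiskerRight, Hom.one_def]
  rw [h, Category.assoc, a.one_act, lift_leftUnitor_hom]

theorem mul_smul {E : Over S} (a : AlgGrp.Action G E) {T : Over S} (g h : T ⟶ G) (x : T ⟶ E) :
    lift (g * h) x ≫ a.act = lift g (lift h x ≫ a.act) ≫ a.act := by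
  have e : lift (g * h) x = lift (lift g h) x ≫ (μ[G] ▷ E) := by
    rw [lift_whiskerRight, Hom.mul_def]
  rw [e, Category.assoc, a.mul_act, lift_lift_associator_hom_assoc, lift_whiskerLeft_assoc]

/-- The shear automorphism. -/
noncomputable def shear {E : Over S} (a : AlgGrp.Action G E) : G ⊗ E ≅ G ⊗ E where
  hom := lift (fst G E) a.act
  inv := lift (fst G E) (lift (fst G E)⁻¹ (snd G E) ≫ a.act)
  hom_inv_id := by
    rw [comp_lift, comp_lift_assoc, lift_fst, GrpObj.comp_inv, lift_fst, lift_snd]
    have e := mul_smul a (fst G E)⁻¹ (fst G E) (snd G E)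
    rw [lift_fst_snd, Category.id_comp] at e
    rw [← e, inv_mul_cancel, one_smul, lift_fst_snd]
  inv_hom_id := by
    rw [comp_lift, lift_fst]
    have : (lift (fst G E) (lift (fst G E)⁻¹ (snd G E) ≫ a.act)) ≫ a.act = snd G E := by
      rw [← mul_smul, mul_inv_cancel, one_smul]
    rw [this, lift_fst_snd]

theorem isOpenImmersion_whiskerLeft {U E : Over S} (H : Over S) (i : U ⟶ E) [IsOpenImmersion i.left] :
    IsOpenImmersion (H ◁ i).left :=
  MorphismProperty.of_isPullback (P := @IsOpenImmersion)
    (((AlgSt.isPullback_whiskerLeft (G := H) i).map (Over.forget S)).flip) ‹_›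

theorem preimage_smoothLocus_of_comp_eq {A B C : Scheme.{u}} (f : A ⟶ B) (g : B ⟶ C) (h : A ⟶ C)
    [IsOpenImmersion f] [LocallyOfFinitePresentation g] [LocallyOfFinitePresentation h] (e : f ≫ g = h) :
    f ⁻¹ᵁ g.smoothLocus = h.smoothLocus := by
  subst e
  exact Scheme.Hom.preimage_smoothLocus_eq f g

theorem smoothLocus_invariant {E : Over S} (a : AlgGrp.Action G E) [Flat G.hom]
    [LocallyOfFinitePresentation E.hom] (w : (G ⊗ E).left) :
    a.act.left w ∈ E.hom.smoothLocus ↔ (snd G E).left w ∈ E.hom.smoothLocus := by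
  have key : ∀ p : ↑(pullback G.hom E.hom), (pullback.snd G.hom E.hom) p ∈ E.hom.smoothLocus ↔
      p ∈ (pullback.fst G.hom E.hom).smoothLocus := fun p => by
    have h := H75.BaseChange.mem_smoothLocus_snd_iff E.hom G.hom ((pullbackSymmetry G.hom E.hom).hom p)
      (Or.inr (Flat.stalkMap G.hom _))
    rw [← Scheme.Hom.comp_apply, pullbackSymmetry_hom_comp_fst] at h
    refine h.symm.trans ?_
    change (pullbackSymmetry G.hom E.hom).hom p ∈ (pullback.snd E.hom G.hom).smoothLocus ↔ _
    rw [← preimage_smoothLocus_of_comp_eq (pullbackSymmetry G.hom E.hom).hom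
      (pullback.snd E.hom G.hom) (pullback.fst G.hom E.hom) (pullbackSymmetry_hom_comp_snd _ _)]
    rfl
  have h1 := key ((shear a).hom.left w)
  have h2 := key w
  have e : (shear a).hom.left ≫ pullback.fst G.hom E.hom = pullback.fst G.hom E.hom :=
    congrArg CommaMorphism.left (show (shear a).hom ≫ fst G E = fst G E from lift_fst _ _)
  have : IsIso (shear a).hom.left := inferInstanceAs (IsIso ((Over.forget S).map (shear a).hom))
  change (pullback.snd G.hom E.hom) ((shear a).hom.left w) ∈ _ ↔ _ at h1
  rw [← Scheme.Hom.comp_apply, show (shear a).hom.left ≫ pullback.snd G.hom E.hom = a.act.left from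
    congrArg CommaMorphism.left (show (shear a).hom ≫ snd G E = a.act from lift_snd _ _)] at h1
  rw [h1]
  refine Iff.trans ?_ h2.symm
  conv_rhs => rw [← preimage_smoothLocus_of_comp_eq (shear a).hom.left
    (pullback.fst G.hom E.hom) (pullback.fst G.hom E.hom) e]
  rfl

/-- The action restricted to the smooth locus. -/
theorem exists_smoothLocus_action {E : Over S} (a : AlgGrp.Action G E) [Flat G.hom]
    [LocallyOfFinitePresentation E.hom] (hfree : PtFree a) :
    ∃ a' : AlgGrp.Action G (Over.mk (E.hom.smoothLocus.ι ≫ E.hom)), PtFree a' := by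
  let U : Over S := Over.mk (E.hom.smoothLocus.ι ≫ E.hom)
  let i : U ⟶ E := Over.homMk E.hom.smoothLocus.ι
  have : IsOpenImmersion i.left := inferInstanceAs (IsOpenImmersion E.hom.smoothLocus.ι)
  have : Mono i := Over.mono_of_mono_left i
  have hr : Set.range ((G ◁ i) ≫ a.act).left ⊆ Set.range i.left := by
    rintro _ ⟨w, rfl⟩
    change _ ∈ Set.range E.hom.smoothLocus.ι
    rw [Scheme.Opens.range_ι]
    change a.act.left ((G ◁ i).left w) ∈ E.hom.smoothLocus
    rw [smoothLocus_invariant, ← Scheme.Hom.comp_apply, ← Over.comp_left, whiskerLeft_snd]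
    exact ((snd G U).left w).2
  let act : G ⊗ U ⟶ U := Over.homMk (IsOpenImmersion.lift i.left ((G ◁ i) ≫ a.act).left hr) (by
    rw [← Over.w i, ← Category.assoc, IsOpenImmersion.lift_fac, Over.w])
  have hact : act ≫ i = (G ◁ i) ≫ a.act := Over.OverMorphism.ext (IsOpenImmersion.lift_fac _ _ _)
  refine ⟨{ act := act, one_act := ?_, mul_act := ?_ }, fun T g x h => hfree T g (x ≫ i) ?_⟩
  · refine (cancel_mono i).1 ?_
    rw [Category.assoc, hact, ← whisker_exchange_assoc, a.one_act]
    simp
  · refine (cancel_mono i).1 ?_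
    simp only [Category.assoc, hact]
    rw [← whisker_exchange_assoc, a.mul_act, ← whiskerLeft_comp_assoc G act i, hact, whiskerLeft_comp_assoc,
      tensor_whiskerLeft]
    simp
  · have h' := congrArg (· ≫ i) h
    simp only [Category.assoc, hact] at h'
    rwa [lift_whiskerLeft_assoc] at h'

end ActOps

end Groth.Agent.Lib.ArtinAtlas
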