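import Groth.Agent.Lib.QuotSt.Atlas
import Groth.Agent.Lib.AlgStack.ChartLift
import Groth.Agent.Lib.Flat55.FlatDescend
import Groth.Agent.H14.FppfDesc.Scheme
import Mathlib.RingTheory.FinitePresentation

/-!
# If `BG` is algebraic then `G` is flat and locally of finite presentation
-/

set_option autoImplicit false
set_option linter.style.haveILetI false
set_option backward.isDefEq.respectTransparency false
set_option backward.isDefEq.respectTransparency.types false

universe u

open CategoryTheory CategoryTheory.Limits MonoidalCategory CartesianMonoidalCategory AlgebraicGeometry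
open scoped MonObj

namespace Groth.Agent.Lib.ArtinAtlas

theorem ringHom_flat_fp_of_retract {C A B : Type u} [CommRing C] [CommRing A] [CommRing B]
    (f : C →+* A) (g : C →+* B) (r : A →+* B) (e : B →+* A) (hr : r.comp f = g)
    (he : e.comp r = RingHom.id A) (hfl : g.Flat) (hfp : g.FinitePresentation) :
    f.Flat ∧ f.FinitePresentation := by
  algebraize [f, g]
  haveI : Module.Flat C B := hfl
  haveI : Algebra.FinitePresentation C B := hfp
  have he' : e.comp g = f := by rw [← hr, ← RingHom.comp_assoc, he, RingHom.id_comp]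
  let rA : A →ₐ[C] B := ⟨r, fun c => RingHom.congr_fun hr c⟩
  let eA : B →ₐ[C] A := ⟨e, fun c => RingHom.congr_fun he' c⟩
  have h : eA.comp rA = AlgHom.id C A := AlgHom.ext fun a => RingHom.congr_fun he a
  have hfl' : Module.Flat C A :=
    Module.Flat.of_retract rA.toLinearMap eA.toLinearMap (LinearMap.ext fun a => AlgHom.congr_fun h a)
  have hsur : Function.Surjective eA := fun a => ⟨rA a, AlgHom.congr_fun h a⟩
  obtain ⟨s, hs⟩ := (inferInstance : Algebra.FiniteType C B).out
  classical
  have hker : (RingHom.ker eA.toRingHom).FG := by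
    refine ⟨s.image fun x => x - rA (eA x), le_antisymm ?_ fun x hx => ?_⟩
    · rw [Ideal.span_le]
      intro z hz
      simp only [Finset.coe_image, Set.mem_image] at hz
      obtain ⟨x, -, rfl⟩ := hz
      change eA (x - rA (eA x)) = 0
      rw [map_sub]
      exact sub_eq_zero.2 (AlgHom.congr_fun h (eA x)).symm
    · let I := Ideal.span ((s.image fun x => x - rA (eA x) : Finset B) : Set B)
      have key : (Ideal.Quotient.mkₐ C I).comp (rA.comp eA) = Ideal.Quotient.mkₐ C I := by
        refine AlgHom.ext_of_adjoin_eq_top hs fun x hx' => ?_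
        refine (Ideal.Quotient.mk_eq_mk_iff_sub_mem _ _).2 ?_
        rw [← neg_sub]
        exact I.neg_mem (Ideal.subset_span (by simp only [Finset.coe_image]; exact Set.mem_image_of_mem _ hx'))
      have hx0 : eA x = 0 := hx
      have := AlgHom.congr_fun key x
      simp only [AlgHom.comp_apply, hx0, map_zero] at this
      exact Ideal.Quotient.eq_zero_iff_mem.1 this.symm
  exact ⟨hfl', Algebra.FinitePresentation.of_surjective hsur hker⟩

/-- Flatness and finite presentation pass to retracts with affine retraction. -/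
theorem flat_lfp_of_retract {U V S : Scheme.{u}} (e : U ⟶ V) (r : V ⟶ U) [IsAffineHom r]
    (h : e ≫ r = 𝟙 U) (f : U ⟶ S) (hfl : Flat (r ≫ f)) (hfp : LocallyOfFinitePresentation (r ≫ f)) :
    Flat f ∧ LocallyOfFinitePresentation f := by
  have key : ∀ (W : S.affineOpens) (O : U.affineOpens) (i : O.1 ≤ f ⁻¹ᵁ W.1),
      (f.appLE W O i).hom.Flat ∧ (f.appLE W O i).hom.FinitePresentation := by
    intro W O i
    let O' : V.affineOpens := ⟨r ⁻¹ᵁ O.1, O.2.preimage r⟩
    have i' : O'.1 ≤ (r ≫ f) ⁻¹ᵁ W.1 := fun x hx => i hx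
    have he : O.1 ≤ e ⁻¹ᵁ O'.1 := by
      change O.1 ≤ (e ≫ r) ⁻¹ᵁ O.1
      rw [h]
      exact le_of_eq rfl
    refine ringHom_flat_fp_of_retract (f.appLE W O i).hom ((r ≫ f).appLE W O' i').hom
      (r.appLE O O' le_rfl).hom (e.appLE O' O he).hom ?_ ?_
      (HasRingHomProperty.appLE (P := @Flat) _ hfl W O' i')
      (HasRingHomProperty.appLE (P := @LocallyOfFinitePresentation) _ hfp W O' i')
    · rw [← CommRingCat.hom_comp, Scheme.Hom.appLE_comp_appLE]
    · rw [← CommRingCat.hom_comp, Scheme.Hom.appLE_comp_appLE]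
      refine Eq.trans ?_ CommRingCat.hom_id
      congr 1
      have key : ∀ (g : U ⟶ U) (_ : g = 𝟙 U) (e' : O.1 ≤ g ⁻¹ᵁ O.1), g.appLE O O e' = 𝟙 _ := by
        rintro g rfl e'
        simp [Scheme.Hom.appLE]
        exact U.presheaf.map_id _
      exact key _ h _
  exact ⟨(HasRingHomProperty.iff_appLE (P := @Flat)).2 fun W O i => (key W O i).1,
    (HasRingHomProperty.iff_appLE (P := @LocallyOfFinitePresentation)).2 fun W O i => (key W O i).2⟩

variable {S : Scheme.{u}} {G : Over S} [GrpObj G] [IsAffineHom G.hom]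

open AlgSt (QuotObj)
open FibCat (overCat fpFst)

/-- A torsor whose total space is smooth surjective over the base forces a flat lfp group. -/
theorem flat_lfp_of_torsor (A : QuotObj Scheme.fppfPrecoverage G (AlgSt.trivAction G))
    (hsm : Smooth A.P.hom) (hsur : Surjective A.P.hom) :
    Flat G.hom ∧ LocallyOfFinitePresentation G.hom := by
  obtain ⟨R, hR, hsec⟩ := A.loc
  haveI : LocallyOfFinitePresentation.{u} (𝟙 S) := inferInstance
  haveI : MorphismProperty.IsMultiplicative @LocallyOfFinitePresentation.{u} :=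
    { id_mem := fun X ↦ (inferInstance : LocallyOfFinitePresentation (𝟙 X)) }
  have hR' : Sieve.generate R ∈ (Scheme.precoverage (@Flat ⊓ @LocallyOfFinitePresentation)).toGrothendieck A.base.left :=
    Precoverage.generate_mem_toGrothendieck hR
  obtain ⟨𝒰, hle⟩ := Scheme.exists_cover_of_mem_grothendieckTopology
    (P := @Flat ⊓ @LocallyOfFinitePresentation) hR'
  have hex : ∀ i, ∃ s : 𝒰.X i ⟶ A.P.left, s ≫ A.π.left = 𝒰.f i := fun i => by
    obtain ⟨Y, k, g, hg, hk⟩ := hle _ _ (Presieve.ofArrows.mk i)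
    obtain ⟨s, hs⟩ := hsec g hg
    exact ⟨k ≫ s, by rw [Category.assoc]; exact (congrArg (k ≫ ·) hs).trans hk⟩
  choose s hs using hex
  let Z : 𝒰.I₀ → Over S := fun i => Over.mk (𝒰.f i ≫ A.base.hom)
  let sZ : ∀ i, Z i ⟶ A.P := fun i => Over.homMk (s i) (by
    change s i ≫ A.P.hom = 𝒰.f i ≫ A.base.hom
    rw [← Over.w A.π, ← Category.assoc]
    exact congrArg (· ≫ A.base.hom) (hs i))
  let gZ : ∀ i, Z i ⟶ A.base := fun i => Over.homMk (𝒰.f i)
  have sq : ∀ i, IsPullback (((G ◁ sZ i) ≫ A.act.act).left) (snd G (Z i)).left A.π.left (gZ i).left := fun i => by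
    have e : sZ i ≫ A.π = gZ i := Over.OverMorphism.ext (hs i)
    have := (AlgSt.isPullback_whiskerLeft (G := G) (sZ i)).paste_horiz A.cart
    rw [e] at this
    exact this.map (Over.forget S)
  have hq : ∀ i, Flat ((G ◁ sZ i) ≫ A.act.act).left ∧
      LocallyOfFinitePresentation ((G ◁ sZ i) ≫ A.act.act).left := fun i =>
    ⟨MorphismProperty.of_isPullback (P := @Flat) (sq i).flip (𝒰.map_prop i).1,
      MorphismProperty.of_isPullback (P := @LocallyOfFinitePresentation) (sq i).flip (𝒰.map_prop i).2⟩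
  have hZ : ∀ i, Flat (Z i).hom ∧ LocallyOfFinitePresentation (Z i).hom := fun i => by
    have : IsAffineHom (snd G (Z i)).left :=
      MorphismProperty.of_isPullback (P := @IsAffineHom) (IsPullback.of_hasPullback G.hom (Z i).hom) ‹_›
    refine flat_lfp_of_retract (lift (1 : Z i ⟶ G) (𝟙 _)).left (snd G (Z i)).left ?_ (Z i).hom ?_ ?_
    · rw [← Over.comp_left, lift_snd]
      rfl
    all_goals rw [Over.w, ← Over.w ((G ◁ sZ i) ≫ A.act.act)]
    · have := (hq i).1
      infer_instance
    · have := (hq i).2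
      infer_instance
  let W : 𝒰.I₀ → Scheme.{u} := fun i => (G ⊗ Z i).left
  let p : (∐ W) ⟶ G.left := Sigma.desc fun i => (fst G (Z i)).left
  have hp₁ : Flat p := IsZariskiLocalAtSource.sigmaDesc (P := @Flat) fun i =>
    MorphismProperty.of_isPullback (P := @Flat) (IsPullback.of_hasPullback G.hom (Z i).hom).flip (hZ i).1
  have hp₂ : LocallyOfFinitePresentation p :=
    IsZariskiLocalAtSource.sigmaDesc (P := @LocallyOfFinitePresentation) fun i =>
      MorphismProperty.of_isPullback (P := @LocallyOfFinitePresentation)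
        (IsPullback.of_hasPullback G.hom (Z i).hom).flip (hZ i).2
  have hp₃ : Surjective p := ⟨fun x => by
    obtain ⟨y, hy⟩ := hsur.surj (G.hom x)
    obtain ⟨i, z, hz⟩ := 𝒰.exists_eq (A.π.left y)
    obtain ⟨w, hw, -⟩ := Scheme.Pullback.exists_preimage_pullback (f := G.hom) (g := (Z i).hom) x z (by
      change G.hom x = (𝒰.f i ≫ A.base.hom) z
      rw [Scheme.Hom.comp_apply, hz, ← Scheme.Hom.comp_apply, Over.w, hy])
    refine ⟨(Sigma.ι W i) w, ?_⟩
    rw [← Scheme.Hom.comp_apply, Sigma.ι_desc]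
    exact hw⟩
  have hc : ∀ i, (fst G (Z i)).left ≫ G.hom = ((G ◁ sZ i) ≫ A.act.act).left ≫ A.P.hom := fun i => by
    rw [Over.w, Over.w]
  have he : p ≫ G.hom = Sigma.desc fun i => ((G ◁ sZ i) ≫ A.act.act).left ≫ A.P.hom := by
    refine Sigma.hom_ext _ _ fun i => ?_
    rw [Sigma.ι_desc, Sigma.ι_desc_assoc, hc]
  have h₁ : Flat (p ≫ G.hom) := by
    rw [he]
    exact IsZariskiLocalAtSource.sigmaDesc (P := @Flat) fun i => by have := (hq i).1; infer_instance
  have h₂ : LocallyOfFinitePresentation (p ≫ G.hom) := by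
    rw [he]
    exact IsZariskiLocalAtSource.sigmaDesc (P := @LocallyOfFinitePresentation) fun i => by
      have := (hq i).2; infer_instance
  exact ⟨Flat55.FlatDescend.flat_of_comp p G.hom,
    Groth.Agent.H14.FppfDesc.Scheme.locallyOfFinitePresentation_of_comp p G.hom h₂⟩

/-- If `BG` is algebraic then `G` is flat and locally of finite presentation. -/
theorem flat_lfp_of_isAlgStack
    (h : AlgSt.IsAlgStack Scheme.fppfPrecoverage (AlgSt.BG Scheme.fppfPrecoverage G)) :
    Flat G.hom ∧ LocallyOfFinitePresentation G.hom := by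
  obtain ⟨U, u, h1, h2⟩ := h.atlas
  let z := QuotSt.atlas Scheme.fppfPrecoverage (AlgSt.trivAction G)
  have he : FibCat.IsEquivOver (BasedFunctor.comp (QuotSt.torsorLift u) (AlgStack.FibProd.swap u z)) :=
    AlgStack.BasedBasic.IsEquivOver.comp (QuotSt.isEquivOver_torsorLift u)
      (AlgStack.FibProd.isEquivOver_swap _ _)
  have tr : ∀ {P : MorphismProperty (AlgSp.Sp S)}, AlgSt.RepByAlgSpWith P u →
      AlgSt.RepByAlgSpWith P (AlgSt.overMap (QuotSt.obj₀ u).φ) := fun hP =>
    (AlgStack.Rep.repByAlgSpWith_iff_of_isEquivOver (f := fpFst z u)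
      (f' := AlgSt.overMap (QuotSt.obj₀ u).φ) he AlgStack.BasedBasic.isEquivOver_id (eqToIso rfl)).1
      (AlgStack.Rep.repByAlgSpWith_fpFst z hP)
  have hs : Smooth (QuotSt.obj₀ u).φ.left := AlgStack.ChartLift.smooth_of_overMap (tr h1)
  have hr : Surjective (QuotSt.obj₀ u).φ.left := AlgStack.ChartLift.surjective_of_overMap (tr h2)
  have : IsIso (MonoidalCategoryStruct.tensorUnit (Over S)).hom := inferInstanceAs (IsIso (𝟙 S))
  refine flat_lfp_of_torsor (QuotSt.obj₀ u) ?_ ?_
  · rw [← Over.w (QuotSt.obj₀ u).φ]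
    infer_instance
  · rw [← Over.w (QuotSt.obj₀ u).φ]
    infer_instance

end Groth.Agent.Lib.ArtinAtlas
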