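import Groth.Agent.Lib.ArtinAtlas.Twist
import Groth.Prelude.Def_AlgGrp

/-!
# The free action on a chart of representations
-/

set_option autoImplicit false

universe u

open CategoryTheory CategoryTheory.Limits MonoidalCategory CartesianMonoidalCategory AlgebraicGeometry
open scoped MonObj

namespace Groth.Agent.Lib.ArtinAtlas

variable {S : Scheme.{u}} {R : CommRingCat.{u}} {j : Spec R ⟶ S} [IsOpenImmersion j] {G : Over S} [GrpObj G]
  [IsAffineHom G.hom] (c : GrpChart j G) {n : ℕ}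

/-- The representation ring acts: translation is a morphism with the expected points. -/
theorem exists_act {B : Type u} [CommRing B] [Algebra R B] (M : c.A →ₐ[R] Matrix (Fin n) (Fin n) B)
    (hM : ∀ (C : Type u) [CommRing C] [Algebra R C] (m : c.A →ₐ[R] Matrix (Fin n) (Fin n) C),
      ∃! g : B →ₐ[R] C, g.mapMatrix.comp M = m) :
    ∃ act : G ⊗ pt j B ⟶ pt j B,
      ∀ (Z : Type u) [CommRing Z] [Algebra R Z] (g : c.A →ₐ[R] Z) (x y : B →ₐ[R] Z),
        y.mapMatrix.comp M = c.twist g (x.mapMatrix.comp M) →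
          lift (c.e Z g) (ptMap j x) ≫ act = ptMap j y := by
  have : IsAffineHom (snd G (pt j B)).left :=
    MorphismProperty.of_isPullback (P := @IsAffineHom) (IsPullback.of_hasPullback G.hom (pt j B).hom) ‹_›
  have : IsAffine (pt j B).left := inferInstanceAs (IsAffine (Spec (CommRingCat.of B)))
  have : IsAffine (G ⊗ pt j B).left := isAffine_of_isAffineHom (snd G (pt j B)).left
  obtain ⟨Z₀, _, _, ⟨κ⟩⟩ := exists_pt_iso j (G ⊗ pt j B) (snd G (pt j B))
  obtain ⟨ψ, hψ⟩ := exists_ptMap j (κ.hom ≫ snd G (pt j B))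
  let g₀ := (c.e Z₀).symm (κ.hom ≫ fst G (pt j B))
  obtain ⟨y₀, hy₀, -⟩ := hM Z₀ (c.twist g₀ (ψ.mapMatrix.comp M))
  refine ⟨κ.inv ≫ ptMap j y₀, fun Z _ _ g x y hy => ?_⟩
  obtain ⟨φ, hφ⟩ := exists_ptMap j (lift (c.e Z g) (ptMap j x) ≫ κ.inv)
  rw [← Category.assoc, ← hφ, ← ptMap_comp]
  congr 1
  have hg : φ.comp g₀ = g := by
    apply (c.e Z).injective
    rw [c.natural, hφ, Equiv.apply_symm_apply]
    simp
  have hx : φ.comp ψ = x := by
    refine ptMap_injective j ?_
    rw [ptMap_comp, hφ, hψ]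
    simp
  obtain ⟨_, -, hu⟩ := hM Z (c.twist g (x.mapMatrix.comp M))
  refine (hu _ ?_).trans (hu y hy).symm
  subst hg hx
  calc (φ.comp y₀).mapMatrix.comp M = φ.mapMatrix.comp (y₀.mapMatrix.comp M) := by ext a i k; rfl
    _ = _ := by
      rw [hy₀, c.twist_comp]
      congr 1

omit [IsOpenImmersion j] [IsAffineHom G.hom] [GrpObj G] in
theorem affine_cover_pt {B : Type u} [CommRing B] [Algebra R B] [IsOpenImmersion j] (T : Over S)
    (q : T ⟶ pt j B) (x : T.left) :
    ∃ (Z : Type u) (_ : CommRing Z) (_ : Algebra R Z) (i : pt j Z ⟶ T), IsOpenImmersion i.left ∧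
      x ∈ Set.range i.left := by
  obtain ⟨U, hU, hxU, -⟩ := exists_isAffineOpen_mem_and_subset (X := T.left) (x := x) (U := ⊤) trivial
  let TU : Over S := Over.mk (U.ι ≫ T.hom)
  let iU : TU ⟶ T := Over.homMk U.ι
  have : IsAffine TU.left := hU
  obtain ⟨Z, _, _, ⟨κ⟩⟩ := exists_pt_iso j TU (iU ≫ q)
  refine ⟨Z, inferInstance, inferInstance, κ.hom ≫ iU, ?_, ?_⟩
  · have : IsIso κ.hom.left := inferInstanceAs (IsIso ((Over.forget S).map κ.hom))
    change IsOpenImmersion (κ.hom.left ≫ U.ι)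
    infer_instance
  · refine ⟨κ.inv.left ⟨x, hxU⟩, ?_⟩
    change (κ.inv.left ≫ κ.hom.left ≫ U.ι) ⟨x, hxU⟩ = x
    rw [← Category.assoc, ← Over.comp_left, κ.inv_hom_id]
    exact rfl

/-- The action on the representation chart is free. -/
theorem exists_action (hn : 0 < n) {B : Type u} [CommRing B] [Algebra R B]
    (M : c.A →ₐ[R] Matrix (Fin n) (Fin n) B)
    (hM : ∀ (C : Type u) [CommRing C] [Algebra R C] (m : c.A →ₐ[R] Matrix (Fin n) (Fin n) C),
      ∃! g : B →ₐ[R] C, g.mapMatrix.comp M = m) :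
    ∃ a : AlgGrp.Action G (pt j B), ∀ (T : Over S) (g : T ⟶ G) (x : T ⟶ pt j B),
      lift g x ≫ a.act = x → g = 1 := by
  obtain ⟨act, hact⟩ := exists_act c M hM
  have hext : ∀ (T : Over S) (_ : T ⟶ pt j B) (Y : Over S) (f f' : T ⟶ Y),
      (∀ (Z : Type u) [CommRing Z] [Algebra R Z] (i : pt j Z ⟶ T), i ≫ f = i ≫ f') → f = f' := by
    intro T q Y f f' h
    refine Over.OverMorphism.ext (Scheme.hom_ext_of_forall _ _ fun x => ?_)
    obtain ⟨Z, _, _, i, hi, hxi⟩ := affine_cover_pt (j := j) T q x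
    refine ⟨i.left.opensRange, hxi, ?_⟩
    rw [← i.left.isoOpensRange_inv_comp, Category.assoc, Category.assoc]
    exact congrArg (i.left.isoOpensRange.inv ≫ ·) (congrArg CommaMorphism.left (h Z i))
  have hone : ∀ {T : Over S} (x : T ⟶ pt j B), lift (1 : T ⟶ G) x ≫ act = x := fun {T} x => by
    refine hext T x _ _ _ fun Z _ _ i => ?_
    obtain ⟨φ, hφ⟩ := exists_ptMap j (i ≫ x)
    rw [comp_lift_assoc, MonObj.comp_one, ← hφ]
    have h := hact Z (c.onePt Z) φ φ (c.twist_one _).symm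
    rwa [GrpChart.onePt, Equiv.apply_symm_apply] at h
  have hmul : ∀ {T : Over S} (g g' : T ⟶ G) (x : T ⟶ pt j B),
      lift (g * g') x ≫ act = lift g (lift g' x ≫ act) ≫ act := fun {T} g g' x => by
    refine hext T x _ _ _ fun Z _ _ i => ?_
    obtain ⟨φ, hφ⟩ := exists_ptMap j (i ≫ x)
    obtain ⟨a, ha⟩ := (c.e Z).surjective (i ≫ g)
    obtain ⟨a', ha'⟩ := (c.e Z).surjective (i ≫ g')
    obtain ⟨y, hy, -⟩ := hM Z (c.twist a' (φ.mapMatrix.comp M))
    obtain ⟨w, hw, -⟩ := hM Z (c.twist a (y.mapMatrix.comp M))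
    have h1 := hact Z a' φ y hy
    have h2 := hact Z a y w hw
    have h3 := hact Z (c.mulPts a a') φ w (by rw [hw, hy, c.twist_mul])
    simp only [GrpChart.mulPts, Equiv.apply_symm_apply] at h3
    rw [comp_lift_assoc, comp_lift_assoc, comp_lift_assoc, MonObj.comp_mul, ← hφ, ← ha, ← ha', h1, h2, h3]
  refine ⟨{ act := act, one_act := ?_, mul_act := ?_ }, fun T g x h => ?_⟩
  · have e : (η[G] ▷ pt j B) = lift (1 : 𝟙_ (Over S) ⊗ pt j B ⟶ G) (λ_ (pt j B)).hom := by
      apply CartesianMonoidalCategory.hom_ext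
      · rw [whiskerRight_fst, lift_fst, toUnit_unique (fst _ _) (toUnit _), Hom.one_def]
      · simp [leftUnitor_hom]
    rw [e, hone]
  · have e : (μ[G] ▷ pt j B) = lift ((fst _ _ ≫ fst G G) * (fst _ _ ≫ snd G G)) (snd _ _) := by
      apply CartesianMonoidalCategory.hom_ext
      · rw [whiskerRight_fst, lift_fst, ← MonObj.comp_mul, Hom.mul_def, lift_fst_snd, Category.id_comp]
      · simp
    have e' : (α_ G G (pt j B)).hom ≫ (G ◁ act) =
        lift (fst _ _ ≫ fst G G) (lift (fst _ _ ≫ snd G G) (snd _ _) ≫ act) := by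
      apply CartesianMonoidalCategory.hom_ext
      · simp
      · rw [Category.assoc, whiskerLeft_snd, lift_snd, ← Category.assoc]
        congr 1
        apply CartesianMonoidalCategory.hom_ext <;> simp
    rw [e, hmul, ← Category.assoc (α_ G G (pt j B)).hom, e']
  · refine hext T x _ _ _ fun Z _ _ i => ?_
    obtain ⟨φ, hφ⟩ := exists_ptMap j (i ≫ x)
    obtain ⟨a, ha⟩ := (c.e Z).surjective (i ≫ g)
    obtain ⟨y, hy, -⟩ := hM Z (c.twist a (φ.mapMatrix.comp M))
    have h1 := hact Z a φ y hy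
    have h2 := congrArg (i ≫ ·) h
    simp only [comp_lift_assoc] at h2
    rw [← hφ, ← ha, h1] at h2
    rw [ptMap_injective j h2] at hy
    rw [MonObj.comp_one, ← ha, c.eq_one_of_twist_eq hn a _ hy.symm, GrpChart.onePt, Equiv.apply_symm_apply]

end Groth.Agent.Lib.ArtinAtlas
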