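import Mathlib.AlgebraicGeometry.Morphisms.Flat
import Mathlib.AlgebraicGeometry.Morphisms.FinitePresentation
import Mathlib.AlgebraicGeometry.Morphisms.Affine
import Mathlib.CategoryTheory.Monoidal.Cartesian.Over
import Mathlib.CategoryTheory.Monoidal.Cartesian.Grp

/-!
# Points of an affine group scheme over an affine chart of the base
-/

set_option autoImplicit false

universe u

open CategoryTheory CategoryTheory.Limits MonoidalCategory CartesianMonoidalCategory AlgebraicGeometry

namespace Groth.Agent.Lib.ArtinAtlas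

variable {S : Scheme.{u}} {R : CommRingCat.{u}} (j : Spec R ⟶ S)

/-- The spectrum of an algebra over the chart, over `S`. -/
noncomputable abbrev pt (Z : Type u) [CommRing Z] [Algebra R Z] : Over S :=
  Over.mk (Spec.map (CommRingCat.ofHom (algebraMap R Z)) ≫ j)

/-- Functoriality of `pt`. -/
noncomputable abbrev ptMap {Z Z' : Type u} [CommRing Z] [Algebra R Z] [CommRing Z'] [Algebra R Z']
    (φ : Z →ₐ[R] Z') : pt j Z' ⟶ pt j Z :=
  Over.homMk (Spec.map (CommRingCat.ofHom φ.toRingHom)) (by
    change Spec.map (CommRingCat.ofHom φ.toRingHom) ≫ Spec.map (CommRingCat.ofHom (algebraMap R Z)) ≫ j =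
      Spec.map (CommRingCat.ofHom (algebraMap R Z')) ≫ j
    rw [← Category.assoc, ← Spec.map_comp, ← CommRingCat.ofHom_comp]
    exact congrArg (fun f => Spec.map (CommRingCat.ofHom f) ≫ j) φ.comp_algebraMap)

theorem ptMap_comp {Z Z' Z'' : Type u} [CommRing Z] [Algebra R Z] [CommRing Z'] [Algebra R Z'] [CommRing Z'']
    [Algebra R Z''] (φ : Z →ₐ[R] Z') (ψ : Z' →ₐ[R] Z'') : ptMap j (ψ.comp φ) = ptMap j ψ ≫ ptMap j φ :=
  Over.OverMorphism.ext (Spec.map_comp (CommRingCat.ofHom φ.toRingHom) (CommRingCat.ofHom ψ.toRingHom))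

theorem ptMap_id {Z : Type u} [CommRing Z] [Algebra R Z] : ptMap j (AlgHom.id R Z) = 𝟙 (pt j Z) :=
  Over.OverMorphism.ext (Spec.map_id (CommRingCat.of Z))

/-- An affine `S`-scheme over the chart as the points functor of an algebra. -/
theorem exists_points (G : Over S) [IsAffineHom G.hom] [Flat G.hom] [LocallyOfFinitePresentation G.hom] :
    ∃ (A : Type u) (_ : CommRing A) (_ : Algebra R A), Module.Flat R A ∧ Algebra.FinitePresentation R A ∧
      ∃ e : ∀ (Z : Type u) [CommRing Z] [Algebra R Z], (A →ₐ[R] Z) ≃ (pt j Z ⟶ G),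
        ∀ (Z Z' : Type u) [CommRing Z] [Algebra R Z] [CommRing Z'] [Algebra R Z'] (φ : Z →ₐ[R] Z') (a : A →ₐ[R] Z),
          e Z' (φ.comp a) = ptMap j φ ≫ e Z a := by
  let GU := pullback G.hom j
  have : IsAffineHom (pullback.snd G.hom j) := inferInstance
  have : IsAffine GU := isAffine_of_isAffineHom (pullback.snd G.hom j)
  let A : CommRingCat.{u} := Γ(GU, ⊤)
  let ι : Spec A ⟶ GU := GU.isoSpec.inv
  let s : R ⟶ A := Spec.preimage (ι ≫ pullback.snd G.hom j)
  have hs : Spec.map s = ι ≫ pullback.snd G.hom j := Spec.map_preimage _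
  let : Algebra R A := s.hom.toAlgebra
  have hflat : Flat (Spec.map s) := by
    rw [hs]; have : Flat (pullback.snd G.hom j) := inferInstance
    infer_instance
  have hfp : LocallyOfFinitePresentation (Spec.map s) := by
    rw [hs]
    have : LocallyOfFinitePresentation (pullback.snd G.hom j) := inferInstance
    infer_instance
  have h1 : Module.Flat R A := RingHom.flat_algebraMap_iff.1 ((HasRingHomProperty.Spec_iff (P := @Flat)).1 hflat)
  have h2 : Algebra.FinitePresentation R A := RingHom.finitePresentation_algebraMap.1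
    ((HasRingHomProperty.Spec_iff (P := @LocallyOfFinitePresentation)).1 hfp)
  let toPt : ∀ (Z : Type u) [CommRing Z] [Algebra R Z], (A →ₐ[R] Z) → (pt j Z ⟶ G) := fun Z _ _ a =>
    Over.homMk (Spec.map (CommRingCat.ofHom a.toRingHom) ≫ ι ≫ pullback.fst G.hom j) (by
      simp only [Over.mk_hom, Category.assoc, pullback.condition]
      rw [← reassoc_of% hs, ← Category.assoc, ← Spec.map_comp]
      congr 2
      exact CommRingCat.hom_ext a.comp_algebraMap)
  have hinj : ∀ (Z : Type u) [CommRing Z] [Algebra R Z], Function.Injective (toPt Z) := fun Z _ _ a b h => by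
    have h' : Spec.map (CommRingCat.ofHom a.toRingHom) ≫ ι = Spec.map (CommRingCat.ofHom b.toRingHom) ≫ ι := by
      refine pullback.hom_ext ?_ ?_
      · simpa only [toPt, Over.homMk_left, Category.assoc] using congrArg CommaMorphism.left h
      · rw [Category.assoc, Category.assoc, ← hs, ← Spec.map_comp, ← Spec.map_comp]
        congr 1
        exact CommRingCat.hom_ext (a.comp_algebraMap.trans b.comp_algebraMap.symm)
    have h'' := Spec.map_injective ((cancel_mono ι).1 h')
    exact AlgHom.ext fun x => congrArg (fun f : A ⟶ CommRingCat.of Z => f.hom x) h''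
  have hsurj : ∀ (Z : Type u) [CommRing Z] [Algebra R Z], Function.Surjective (toPt Z) := fun Z _ _ p => by
    let l : Spec (CommRingCat.of Z) ⟶ GU :=
      pullback.lift p.left (Spec.map (CommRingCat.ofHom (algebraMap R Z))) (Over.w p)
    let f : A ⟶ CommRingCat.of Z := Spec.preimage (l ≫ GU.isoSpec.hom)
    have hf : Spec.map f = l ≫ GU.isoSpec.hom := Spec.map_preimage _
    have hfι : Spec.map f ≫ ι = l := by simp [hf, ι]
    have hc : s ≫ f = CommRingCat.ofHom (algebraMap R Z) := by
      refine Spec.map_injective ?_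
      rw [Spec.map_comp, hs, reassoc_of% hfι]
      exact pullback.lift_snd _ _ _
    refine ⟨{ f.hom with commutes' := fun r => congrArg (fun g : R ⟶ CommRingCat.of Z => g.hom r) hc }, ?_⟩
    refine Over.OverMorphism.ext ?_
    change Spec.map f ≫ ι ≫ pullback.fst G.hom j = p.left
    rw [reassoc_of% hfι]
    exact pullback.lift_fst _ _ _
  refine ⟨A, inferInstance, inferInstance, h1, h2,
    fun Z _ _ => Equiv.ofBijective (toPt Z) ⟨hinj Z, hsurj Z⟩, fun Z Z' _ _ _ _ φ a => ?_⟩
  refine Over.OverMorphism.ext ?_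
  change Spec.map (CommRingCat.ofHom (φ.comp a).toRingHom) ≫ ι ≫ pullback.fst G.hom j =
    Spec.map (CommRingCat.ofHom φ.toRingHom) ≫ Spec.map (CommRingCat.ofHom a.toRingHom) ≫ ι ≫ pullback.fst G.hom j
  rw [← Category.assoc (Spec.map (CommRingCat.ofHom φ.toRingHom)), ← Spec.map_comp]
  rfl

end Groth.Agent.Lib.ArtinAtlas
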