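import Groth.Agent.Lib.Flat55.SliceSeq
import Mathlib.RingTheory.Smooth.Quotient
import Mathlib.RingTheory.Nakayama
import Mathlib.RingTheory.Flat.Localization
import Mathlib.RingTheory.Ideal.GoingUp

/-!
# Lifting a finite free quotient cut out by a sequence regular on the closed fibre
-/

set_option autoImplicit false

universe u

namespace Groth.Agent.Lib.ArtinAtlas

open IsLocalRing

section Nil

variable {C : Type u} {M : Type*} [CommRing C] [AddCommGroup M] [Module C M]

/-- Nakayama for a nilpotent ideal. -/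
theorem eq_top_of_sup_smul (N : Ideal C) (hN : IsNilpotent N) (L : Submodule C M)
    (h : L ⊔ N • ⊤ = ⊤) : L = ⊤ := by
  obtain ⟨k, hk⟩ := hN
  suffices ∀ j, L ⊔ (N ^ j) • ⊤ = ⊤ by simpa [hk] using this k
  intro j
  induction j with
  | zero => simp
  | succ j ih =>
    refine top_le_iff.1 (ih.ge.trans (sup_le le_sup_left ?_))
    conv_lhs => rw [← h, Submodule.smul_sup]
    refine sup_le (Submodule.smul_le_right.trans le_sup_left) ?_
    rw [← Submodule.smul_assoc, smul_eq_mul, ← pow_succ]
    exact le_sup_right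

theorem eq_bot_of_le_smul (N : Ideal C) (hN : IsNilpotent N) (L : Submodule C M)
    (h : L ≤ N • L) : L = ⊥ := by
  obtain ⟨k, hk⟩ := hN
  suffices ∀ j, L ≤ (N ^ j) • L by simpa [hk] using this k
  intro j
  induction j with
  | zero => simp
  | succ j ih =>
    refine ih.trans ((Submodule.smul_mono le_rfl h).trans ?_)
    rw [← Submodule.smul_assoc, smul_eq_mul, ← pow_succ]

/-- A flat module is free on lifts of a basis modulo a nilpotent ideal. -/
theorem exists_basis_of_flat (N : Ideal C) (hN : IsNilpotent N) [Module.Flat C M] {ι : Type*}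
    [Fintype ι] (t : ι → M) (hspan : Submodule.span C (Set.range t) ⊔ N • ⊤ = ⊤)
    (hind : ∀ c : ι → C, ∑ i, c i • t i = 0 → ∀ i, c i ∈ N) :
    ∃ b : Module.Basis ι C M, ∀ i, b i = t i := by
  classical
  have hsurj := eq_top_of_sup_smul N hN _ hspan
  let L : (ι → C) →ₗ[C] M := Fintype.linearCombination C t
  have hLs : Function.Surjective L := by
    rw [← LinearMap.range_eq_top, Fintype.range_linearCombination]
    exact hsurj
  have hker : LinearMap.ker L = ⊥ := by
    refine eq_bot_of_le_smul N hN _ ?_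
    rw [← LinearMap.ker_inf_smul_top_eq_smul_of_flat N L hLs]
    refine le_inf le_rfl fun c hc => ?_
    have h := hind c (by simpa [L, Fintype.linearCombination_apply] using hc)
    rw [pi_eq_sum_univ c]
    exact Submodule.sum_mem _ fun i _ => Submodule.smul_mem_smul (h i) Submodule.mem_top
  refine ⟨Module.Basis.ofEquivFun (LinearEquiv.ofBijective L ⟨LinearMap.ker_eq_bot.1 hker, hLs⟩).symm,
    fun i => ?_⟩
  rw [Module.Basis.coe_ofEquivFun]
  change L (Pi.single i 1) = t i
  simp [L]

end Nil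

variable {C : Type u} [CommRing C] [IsLocalRing C] {D : Type u} [CommRing D] [Algebra C D]
  [Algebra.FinitePresentation C D] [Module.Flat C D]

/-- Near every point of the closed subscheme, `hs` cuts out a flat subscheme. -/
theorem exists_flat_slice (hs : List D) (Q : Ideal D) [Q.IsPrime] (hQ : Q.comap (algebraMap C D) = maximalIdeal C)
    (hsQ : ∀ h ∈ hs, h ∈ Q)
    (hreg : ∀ (i : ℕ) (hi : i < hs.length) (x : D),
      hs[i] * x ∈ Ideal.ofList (hs.take i) ⊔ (maximalIdeal C).map (algebraMap C D) →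
      ∃ s ∉ Q, s * x ∈ Ideal.ofList (hs.take i) ⊔ (maximalIdeal C).map (algebraMap C D)) :
    ∃ a ∉ Q, ∀ (P : Ideal (D ⧸ Ideal.ofList hs)) [P.IsPrime], Ideal.Quotient.mk _ a ∉ P →
      Module.Flat C (Localization.AtPrime P) := by
  classical
  let C' := Localization.AtPrime Q
  let K : List D → Ideal D := fun l => Ideal.ofList l ⊔ (maximalIdeal C).map (algebraMap C D)
  have : IsLocalization.AtPrime C (maximalIdeal C) :=
    IsLocalization.self fun x hx => IsLocalRing.notMem_maximalIdeal.1 hx
  have : IsLocalHom (algebraMap C C') := ⟨fun z hz => by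
    by_contra hnu
    have hzQ : algebraMap C D z ∈ Q := by
      rw [← Ideal.mem_comap, hQ]; exact hnu
    rw [IsScalarTower.algebraMap_apply C D C'] at hz
    exact ((IsLocalization.AtPrime.isUnit_to_map_iff C' Q _).1 hz) hzQ⟩
  have : Module.Flat D C' := IsLocalization.flat C' Q.primeCompl
  have : Module.Flat C C' := Module.Flat.trans C D C'
  obtain ⟨a, ha, hgood⟩ := Flat55.SliceSeq.exists_slices (R := C) (C := D) (maximalIdeal C) Q
    (R' := C) (C' := C') (fun r => by
      rw [← IsScalarTower.algebraMap_apply C D C']; rfl)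
    hs hsQ (fun i hi x hx => by
      have e : (Ideal.ofList (hs.take i)).map (algebraMap D C') ⊔
          (maximalIdeal C).map (algebraMap C C') = (K (hs.take i)).map (algebraMap D C') := by
        rw [Ideal.map_sup, Ideal.map_map, ← IsScalarTower.algebraMap_eq]
      rw [e] at hx ⊢
      obtain ⟨y, t, rfl⟩ := IsLocalization.exists_mk'_eq Q.primeCompl x
      rw [IsLocalization.mk'_mem_map_algebraMap_iff Q.primeCompl]
      rw [IsLocalization.mul_mk'_eq_mk'_of_mul, IsLocalization.mk'_mem_map_algebraMap_iff Q.primeCompl] at hx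
      obtain ⟨s, hs', hx⟩ := hx
      obtain ⟨s', hs'', hy⟩ := hreg i hi (s * y) (by rwa [mul_left_comm])
      exact ⟨s' * s, Q.primeCompl.mul_mem hs'' hs', by rwa [mul_assoc]⟩)
    hs.length le_rfl
  refine ⟨a, ha, fun P _ haP => ?_⟩
  let W := Localization.Away a
  obtain ⟨h0, hsteps⟩ := hgood W
  rw [← IsScalarTower.algebraMap_eq, RingHom.flat_algebraMap_iff] at h0
  have hlen : (hs.map (algebraMap D W)).length = hs.length := List.length_map _
  obtain ⟨-, hflat⟩ := Flat55.SliceSeq.steps_to_seq (R := C) (hs.map (algebraMap D W))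
    (fun i hi => by
      have h := hsteps i (hlen ▸ hi)
      rw [← IsScalarTower.algebraMap_eq, Ideal.map_ofList, List.map_take] at h
      simpa using h)
  have hW : Module.Flat C (W ⧸ (Ideal.ofList hs).map (algebraMap D W)) := by
    have := hflat (hs.map (algebraMap D W)).length
    rwa [List.take_length, ← Ideal.map_ofList] at this
  let J₁ := (Ideal.ofList hs).map (algebraMap D W)
  let : Algebra (D ⧸ Ideal.ofList hs) (W ⧸ J₁) :=
    (Ideal.quotientMap J₁ (algebraMap D W) Ideal.le_comap_map).toAlgebra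
  have : IsLocalization.Away (Ideal.Quotient.mk (Ideal.ofList hs) a) (W ⧸ J₁) := by
    have h1 : IsLocalization ((Submonoid.powers a).map (Ideal.Quotient.mk (Ideal.ofList hs))) (W ⧸ J₁) :=
      IsLocalization.of_surjective (R := D) (S := W) (Submonoid.powers a)
        (Ideal.Quotient.mk _) Ideal.Quotient.mk_surjective (Ideal.Quotient.mk J₁)
        Ideal.Quotient.mk_surjective (RingHom.ext fun _ ↦ rfl) (by rw [Ideal.mk_ker, Ideal.mk_ker])
    rwa [Submonoid.map_powers] at h1
  let P' := Localization.AtPrime P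
  have hu : IsUnit (algebraMap (D ⧸ Ideal.ofList hs) P' (Ideal.Quotient.mk _ a)) :=
    IsLocalization.map_units P' (⟨_, haP⟩ : P.primeCompl)
  let g : W ⧸ J₁ →+* P' := IsLocalization.Away.lift (Ideal.Quotient.mk (Ideal.ofList hs) a) hu
  let := g.toAlgebra
  have : IsScalarTower (D ⧸ Ideal.ofList hs) (W ⧸ J₁) P' :=
    .of_algebraMap_eq fun z => (IsLocalization.Away.lift_eq (Ideal.Quotient.mk _ a) hu z).symm
  have : IsScalarTower C (D ⧸ Ideal.ofList hs) (W ⧸ J₁) := .of_algebraMap_eq fun c => rfl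
  have : IsScalarTower C (W ⧸ J₁) P' := .of_algebraMap_eq fun c => by
    exact (IsScalarTower.algebraMap_apply C (D ⧸ Ideal.ofList hs) P' c).trans
      ((IsScalarTower.algebraMap_apply (D ⧸ Ideal.ofList hs) (W ⧸ J₁) P' _).trans
        (congrArg _ (IsScalarTower.algebraMap_apply C (D ⧸ Ideal.ofList hs) (W ⧸ J₁) c).symm))
  have : Module.Flat (D ⧸ Ideal.ofList hs) P' := IsLocalization.flat P' P.primeCompl
  have : Module.Flat (W ⧸ J₁) P' := (Module.flat_iff_of_isLocalization (R := D ⧸ Ideal.ofList hs) (W ⧸ J₁)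
    (Submonoid.powers (Ideal.Quotient.mk (Ideal.ofList hs) a)) P').2 ‹_›
  exact Module.Flat.trans C (W ⧸ J₁) P'

section Ker

variable (N : Ideal C) {Z : Type u} [CommRing Z] [Algebra C Z] {ι : Type*} [Fintype ι]
  {Φ : D →ₐ[C] Z} (hΦ : Function.Surjective Φ) {z : ι → Z}
  (hz : Submodule.span C (Set.range z) = ⊤) (hind : ∀ c : ι → C, ∑ i, c i • z i = 0 → ∀ i, c i ∈ N)

include hΦ hz hind

omit [IsLocalRing C] [Module.Flat C D] in
/-- The kernel is finitely generated modulo the nilpotent ideal. -/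
theorem exists_fg_ker : ∃ I1 : Ideal D, I1.FG ∧ I1 ≤ RingHom.ker Φ ∧
    RingHom.ker Φ ≤ I1 ⊔ N.map (algebraMap C D) := by
  classical
  let J : Ideal D := RingHom.ker Φ
  choose e he using fun i => hΦ (z i)
  have hcomb : ∀ x : D, ∃ c : ι → C, Φ x = Φ (∑ i, c i • e i) := fun x => by
    obtain ⟨c, hc⟩ := (Submodule.mem_span_range_iff_exists_fun C).1 (hz.ge (Submodule.mem_top (x := Φ x)))
    exact ⟨c, by simp [map_sum, he, hc]⟩
  -- `J` is finitely generated modulo `N`
  obtain ⟨gen, hgenD⟩ := (inferInstance : Algebra.FiniteType C D).out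
  choose cg hcg using hcomb
  let R1 : Set D := (fun x => x - ∑ i, cg x i • e i) '' (↑gen ∪ {1} ∪ Set.range fun p : ι × ι => e p.1 * e p.2)
  have hR1f : R1.Finite := ((gen.finite_toSet.union (Set.finite_singleton _)).union (Set.finite_range _)).image _
  let I1 : Ideal D := Ideal.span R1
  have hI1fg : I1.FG := Submodule.fg_span hR1f
  have hI1J : I1 ≤ J := Ideal.span_le.2 fun _ ⟨x, _, hx⟩ => by
    subst hx; simp [J, RingHom.mem_ker, hcg x]
  let M : Submodule C D := Submodule.span C (Set.range e) ⊔ I1.restrictScalars C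
  have hmemR : ∀ x ∈ (↑gen ∪ {1} ∪ Set.range fun p : ι × ι => e p.1 * e p.2 : Set D), x ∈ M := by
    intro x hx
    rw [show x = ∑ i, cg x i • e i + (x - ∑ i, cg x i • e i) by ring]
    exact Submodule.add_mem_sup (Submodule.sum_mem _ fun i _ =>
      Submodule.smul_mem _ _ (Submodule.subset_span ⟨i, rfl⟩)) (Ideal.subset_span ⟨x, hx, rfl⟩)
  have hmul : ∀ x y, x ∈ M → y ∈ M → x * y ∈ M := by
    intro x y hx hy
    obtain ⟨a, ha, i, hi, rfl⟩ := Submodule.mem_sup.1 hx
    obtain ⟨b, hb, j, hj, rfl⟩ := Submodule.mem_sup.1 hy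
    have hab : a * b ∈ M := by
      have : a * b ∈ Submodule.span C (Set.range e) * Submodule.span C (Set.range e) :=
        Submodule.mul_mem_mul ha hb
      rw [Submodule.span_mul_span] at this
      refine (Submodule.span_le.2 ?_) this
      rintro _ ⟨_, ⟨p, rfl⟩, _, ⟨q, rfl⟩, rfl⟩
      exact hmemR _ (Or.inr ⟨(p, q), rfl⟩)
    rw [show (a + i) * (b + j) = a * b + (a * j + i * (b + j)) by ring]
    exact M.add_mem hab (Submodule.mem_sup_right
      (I1.add_mem (I1.mul_mem_left _ hj) (I1.mul_mem_right _ hi)))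
  have hMtop : ∀ x : D, x ∈ M := fun x => by
    have h1 : (1 : D) ∈ M := hmemR 1 (Or.inl (Or.inr rfl))
    have hx : x ∈ Algebra.adjoin C (gen : Set D) := by rw [hgenD]; exact Algebra.mem_top
    induction hx using Algebra.adjoin_induction with
    | mem y hy => exact hmemR y (Or.inl (Or.inl hy))
    | algebraMap r => rw [Algebra.algebraMap_eq_smul_one]; exact M.smul_mem r h1
    | add _ _ _ _ ha hb => exact M.add_mem ha hb
    | mul _ _ _ _ ha hb => exact hmul _ _ ha hb
  have hJle : ∀ x ∈ J, x ∈ I1 ⊔ N.map (algebraMap C D) := fun x hx => by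
    obtain ⟨a, ha, i, hi, rfl⟩ := Submodule.mem_sup.1 (hMtop x)
    obtain ⟨c, rfl⟩ := (Submodule.mem_span_range_iff_exists_fun C).1 ha
    have hx' : Φ (∑ j, c j • e j) = 0 := by
      have h1 : Φ i = 0 := hI1J hi
      simpa [J, RingHom.mem_ker, h1] using hx
    simp only [map_sum, map_smul, he] at hx'
    have hc := hind c hx'
    rw [add_comm]
    refine Submodule.add_mem_sup hi (Ideal.sum_mem _ fun j _ => ?_)
    rw [Algebra.smul_def]
    exact Ideal.mul_mem_right _ _ (Ideal.mem_map_of_mem _ (hc j))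
  exact ⟨I1, hI1fg, hI1J, hJle⟩

omit [Algebra.FinitePresentation C D] [Module.Flat C D] in
/-- By freeness, `J ∩ mD = mJ` modulo the nilpotent ideal. -/
theorem mem_smul_ker {x : D} (hxJ : x ∈ RingHom.ker Φ) (hx : x ∈ (maximalIdeal C).map (algebraMap C D)) :
    x ∈ N.map (algebraMap C D) ⊔ (maximalIdeal C).map (algebraMap C D) * RingHom.ker Φ := by
  classical
  let J : Ideal D := RingHom.ker Φ
  choose e he using fun i => hΦ (z i)
  have hcomb : ∀ x : D, ∃ c : ι → C, Φ x = Φ (∑ i, c i • e i) := fun x => by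
    obtain ⟨c, hc⟩ := (Submodule.mem_span_range_iff_exists_fun C).1 (hz.ge (Submodule.mem_top (x := Φ x)))
    exact ⟨c, by simp [map_sum, he, hc]⟩
  choose cg hcg using hcomb
  have key : ∀ y ∈ (maximalIdeal C) • (⊤ : Submodule C D), ∃ μ : ι → C,
      y - ∑ i, μ i • e i ∈ (maximalIdeal C).map (algebraMap C D) * RingHom.ker Φ := by
    intro y hy
    refine Submodule.smul_induction_on hy (fun c hc d _ => ⟨fun i => c * cg d i, ?_⟩)
      (fun a b ⟨μ, hμ⟩ ⟨ν, hν⟩ => ⟨μ + ν, ?_⟩)
    · have hd : d - ∑ i, cg d i • e i ∈ RingHom.ker Φ := by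
        rw [RingHom.mem_ker, map_sub, hcg d, sub_self]
      have e1 : c • d - ∑ i, (c * cg d i) • e i = algebraMap C D c * (d - ∑ i, cg d i • e i) := by
        rw [← Algebra.smul_def, smul_sub, Finset.smul_sum]
        simp only [mul_smul]
      rw [e1]
      exact Ideal.mul_mem_mul (Ideal.mem_map_of_mem _ hc) hd
    · have e1 : a + b - ∑ i, (μ + ν) i • e i = (a - ∑ i, μ i • e i) + (b - ∑ i, ν i • e i) := by
        simp only [Pi.add_apply, add_smul, Finset.sum_add_distrib]
        abel
      rw [e1]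
      exact add_mem hμ hν
  obtain ⟨μ, hμ⟩ := key x (by
    rw [Ideal.smul_top_eq_map]
    exact (Submodule.restrictScalars_mem C _ _).mpr hx)
  have hsum : ∑ i, μ i • e i ∈ N.map (algebraMap C D) := by
   have hμJ : ∑ i, μ i • z i = 0 := by
    have h2 : x - ∑ i, μ i • e i ∈ RingHom.ker Φ := Ideal.mul_le_right hμ
    rw [RingHom.mem_ker, map_sub, RingHom.mem_ker.1 hxJ, zero_sub, neg_eq_zero, map_sum] at h2
    simpa only [map_smul, he] using h2
   refine Ideal.sum_mem _ fun i _ => ?_
   rw [Algebra.smul_def]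
   exact Ideal.mul_mem_right _ _ (Ideal.mem_map_of_mem _ (hind _ hμJ i))
  rw [← sub_add_cancel x (∑ i, μ i • e i), add_comm]
  exact Submodule.add_mem_sup hsum hμ

end Ker

set_option maxHeartbeats 800000 in
/-- A finite free quotient over `C ⧸ N` cut out on the closed fibre by a regular sequence lifts. -/
theorem exists_lift (N : Ideal C) (hN : IsNilpotent N) {Z : Type u} [CommRing Z] [Algebra C Z]
    {ι : Type*} [Fintype ι] (Φ : D →ₐ[C] Z) (hΦ : Function.Surjective Φ) (z : ι → Z)
    (hz : Submodule.span C (Set.range z) = ⊤) (hind : ∀ c : ι → C, ∑ i, c i • z i = 0 → ∀ i, c i ∈ N)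
    (hNZ : ∀ c ∈ N, algebraMap C Z c = 0) (hs : List D) (hsJ : ∀ h ∈ hs, Φ h = 0)
    (hgen : ∀ Q : Ideal D, Q.IsMaximal → RingHom.ker Φ ≤ Q → ∀ x ∈ RingHom.ker Φ,
      ∃ s ∉ Q, s * x ∈ Ideal.ofList hs ⊔ (maximalIdeal C).map (algebraMap C D))
    (hreg : ∀ Q : Ideal D, Q.IsMaximal → RingHom.ker Φ ≤ Q → ∀ (i : ℕ) (hi : i < hs.length) (x : D),
      hs[i] * x ∈ Ideal.ofList (hs.take i) ⊔ (maximalIdeal C).map (algebraMap C D) →
      ∃ s ∉ Q, s * x ∈ Ideal.ofList (hs.take i) ⊔ (maximalIdeal C).map (algebraMap C D)) :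
    ∃ (T : Type u) (_ : CommRing T) (_ : Algebra C T) (φ : D →ₐ[C] T) (τ : T →ₐ[C] Z)
      (b : Module.Basis ι C T), τ.comp φ = Φ ∧ ∀ i, τ (b i) = z i := by
  classical
  let J : Ideal D := RingHom.ker Φ
  let H : Ideal D := Ideal.ofList hs
  let K : Ideal D := H ⊔ N.map (algebraMap C D)
  have hNJ : N.map (algebraMap C D) ≤ J := Ideal.map_le_iff_le_comap.2 fun c hc => by
    simpa [J, RingHom.mem_ker] using hNZ c hc
  have hHJ : H ≤ J := Ideal.span_le.2 fun x hx => hsJ x hx
  have : Module.Finite C Z := ⟨⟨Finset.univ.image z, by simpa using hz⟩⟩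
  obtain ⟨I1, hI1fg, hI1J, hJle⟩ := exists_fg_ker N hΦ hz hind
  have hsplit : ∀ x ∈ J, x ∈ (maximalIdeal C).map (algebraMap C D) →
      x ∈ N.map (algebraMap C D) ⊔ (maximalIdeal C).map (algebraMap C D) * J :=
    fun x h1 h2 => mem_smul_ker N hΦ hz hind h1 h2
  let Bset : Set D := {b | (∀ (P : Ideal (D ⧸ H)) [P.IsPrime], Ideal.Quotient.mk _ b ∉ P →
      Module.Flat C (Localization.AtPrime P)) ∧ ∀ x ∈ J, b * x ∈ K}
  have htop : Ideal.span Bset ⊔ J = ⊤ := by
    by_contra hne
    obtain ⟨Q, hQ, hle⟩ := Ideal.exists_le_maximal _ hne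
    have hJQ : J ≤ Q := le_sup_right.trans hle
    have hQc : Q.comap (algebraMap C D) = maximalIdeal C := by
      have hmax : (Q.map Φ.toRingHom).IsMaximal := by
        rcases Ideal.map_eq_top_or_isMaximal_of_surjective Φ.toRingHom hΦ hQ with h | h
        · exfalso
          have := congrArg (Ideal.comap Φ.toRingHom) h
          rw [Ideal.comap_map_of_surjective Φ.toRingHom hΦ, Ideal.comap_top,
            ← RingHom.ker_eq_comap_bot] at this
          exact hQ.ne_top ((sup_eq_left.2 hJQ).symm.trans this)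
        · exact h
      have : Algebra.IsIntegral C Z := Algebra.IsIntegral.of_finite C Z
      have h1 := Ideal.isMaximal_comap_of_isIntegral_of_isMaximal (R := C) (Q.map Φ.toRingHom)
      rw [← IsLocalRing.eq_maximalIdeal h1, ← Φ.comp_algebraMap, ← Ideal.comap_comap]
      congr 1
      change Q = Ideal.comap Φ.toRingHom (Ideal.map Φ.toRingHom Q)
      rw [Ideal.comap_map_of_surjective Φ.toRingHom hΦ, ← RingHom.ker_eq_comap_bot]
      exact (sup_eq_left.2 hJQ).symm
    obtain ⟨a, ha, hflat⟩ := exists_flat_slice hs Q hQc (fun h hh => hJQ (hsJ h hh)) (hreg Q hQ hJQ)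
    -- generators of `J` near `Q`
    let DQ := Localization.AtPrime Q
    have hloc : ∀ x ∈ J, algebraMap D DQ x ∈ K.map (algebraMap D DQ) := by
      have hI : I1.map (algebraMap D DQ) ≤
          K.map (algebraMap D DQ) ⊔ maximalIdeal DQ • I1.map (algebraMap D DQ) := by
        rw [Ideal.map_le_iff_le_comap]
        intro x hx
        obtain ⟨s, hs', hsx⟩ := hgen Q hQ hJQ x (hI1J hx)
        obtain ⟨y, hy, w, hw, hyw⟩ := Submodule.mem_sup.1 hsx
        have hwJ : w ∈ J := by
          rw [show w = s * x - y by rw [← hyw]; ring]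
          exact J.sub_mem (J.mul_mem_left _ (hI1J hx)) (hHJ hy)
        have hw' := hsplit w hwJ hw
        have hmQ : ((maximalIdeal C).map (algebraMap C D)).map (algebraMap D DQ) ≤ maximalIdeal DQ := by
          rw [← IsLocalization.AtPrime.map_eq_maximalIdeal Q DQ]
          exact Ideal.map_mono (Ideal.map_le_iff_le_comap.2 hQc.ge)
        have hJI : J.map (algebraMap D DQ) ≤ K.map (algebraMap D DQ) ⊔ I1.map (algebraMap D DQ) := by
          rw [← Ideal.map_sup]
          exact Ideal.map_mono (hJle.trans (sup_le le_sup_right (le_sup_right.trans le_sup_left)))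
        have hKmem : algebraMap D DQ w ∈
            K.map (algebraMap D DQ) ⊔ maximalIdeal DQ • I1.map (algebraMap D DQ) := by
          have h := Ideal.mem_map_of_mem (algebraMap D DQ) hw'
          rw [Ideal.map_sup, Ideal.map_mul] at h
          refine SetLike.le_def.1 (sup_le ?_ ?_) h
          · exact le_trans (Ideal.map_mono (le_sup_right : N.map (algebraMap C D) ≤ K)) le_sup_left
          refine (Ideal.mul_mono hmQ hJI).trans ?_
          rw [Ideal.mul_sup, smul_eq_mul]
          exact sup_le_sup_right Ideal.mul_le_right _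
        rw [Ideal.mem_comap]
        have hu : IsUnit (algebraMap D DQ s) := IsLocalization.map_units DQ (⟨s, hs'⟩ : Q.primeCompl)
        rw [← Ideal.unit_mul_mem_iff_mem _ hu, ← map_mul, ← hyw, map_add]
        exact add_mem (Submodule.mem_sup_left (Ideal.mem_map_of_mem _ (Submodule.mem_sup_left hy))) hKmem
      have := Submodule.le_of_le_smul_of_le_jacobson_bot (R := DQ) (M := DQ) (N' := I1.map (algebraMap D DQ))
        (hI1fg.map (algebraMap D DQ)) (IsLocalRing.maximalIdeal_le_jacobson _) hI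
      intro x hx
      have hx' := Ideal.mem_map_of_mem (algebraMap D DQ) (hJle hx)
      rw [Ideal.map_sup] at hx'
      exact SetLike.le_def.1 (sup_le this (Ideal.map_mono (le_sup_right : N.map (algebraMap C D) ≤ K))) hx'
    obtain ⟨b, hb, hbJ⟩ : ∃ b ∉ Q, ∀ x ∈ I1, b * x ∈ K := by
      obtain ⟨G, hG⟩ := hI1fg
      choose! s hs1 hs2 using fun g (hg : g ∈ G) =>
        (IsLocalization.algebraMap_mem_map_algebraMap_iff Q.primeCompl DQ K g).1
          (hloc g (hI1J (hG.le (Ideal.subset_span hg))))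
      refine ⟨∏ g ∈ G, s g, fun hp => ?_, fun x hx => ?_⟩
      · obtain ⟨g, hg, hgQ⟩ := Ideal.IsPrime.prod_mem_iff.1 hp
        exact hs1 g hg hgQ
      · have : I1 ≤ K.colon {∏ g ∈ G, s g} := by
          rw [← hG, Ideal.span_le]
          intro g hg
          rw [SetLike.mem_coe, Submodule.mem_colon_singleton, smul_eq_mul,
            ← Finset.prod_erase_mul G s hg, mul_comm, mul_assoc]
          exact K.mul_mem_left _ (hs2 g hg)
        simpa [Submodule.mem_colon_singleton, mul_comm] using this hx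
    have hab : a * b ∈ Bset := ⟨fun P _ hP => hflat P fun h => hP (by
      rw [map_mul]; exact P.mul_mem_right _ h), fun x hx => by
        obtain ⟨i, hi, w, hw, rfl⟩ := Submodule.mem_sup.1 (hJle hx)
        rw [mul_add]
        refine K.add_mem ?_ (Submodule.mem_sup_right (Ideal.mul_mem_left _ _ hw))
        rw [mul_assoc]
        exact K.mul_mem_left _ (hbJ i hi)⟩
    exact (Ideal.IsPrime.mem_or_mem inferInstance (hle (Submodule.mem_sup_left (Ideal.subset_span hab)))).elim ha hb
  obtain ⟨h, hh, j, hj, hhj⟩ := Submodule.mem_sup.1 (htop.ge (Submodule.mem_top (x := (1 : D))))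
  have hΦh : Φ h = 1 := by
    have := congrArg Φ hhj
    rw [map_add, map_one, show Φ j = 0 from hj, add_zero] at this
    exact this
  have hhK : ∀ x ∈ J, h * x ∈ K := fun x hx => by
    have : Ideal.span Bset ≤ K.colon {x} := Ideal.span_le.2 fun b hb => by
      rw [SetLike.mem_coe, Submodule.mem_colon_singleton]; exact hb.2 x hx
    simpa [Submodule.mem_colon_singleton] using this hh
  let T := Localization.Away (Ideal.Quotient.mk H h)
  let φ : D →ₐ[C] T := (IsScalarTower.toAlgHom C (D ⧸ H) T).comp (Ideal.Quotient.mkₐ C H)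
  let Φ' : D ⧸ H →ₐ[C] Z := Ideal.Quotient.liftₐ H Φ hHJ
  let τ : T →ₐ[C] Z := IsLocalization.liftAlgHom (M := Submonoid.powers (Ideal.Quotient.mk H h))
    (f := Φ') (by
      rintro ⟨_, k, rfl⟩
      have : Φ' (Ideal.Quotient.mk H h) = 1 := hΦh
      simp [this])
  have hτφ : τ.comp φ = Φ := by
    ext x
    exact IsLocalization.lift_eq _ _
  have : Module.Flat C T := by
    refine Module.flat_of_isLocalized_maximal (R := C) T T (fun Q _ ↦ Localization.AtPrime Q)
      (fun Q _ ↦ Algebra.linearMap T (Localization.AtPrime Q)) fun Q hQ ↦ ?_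
    let P : Ideal (D ⧸ H) := Q.comap (algebraMap (D ⧸ H) T)
    have hQ' : IsLocalization.AtPrime (Localization.AtPrime Q) P :=
      IsLocalization.isLocalization_isLocalization_atPrime_isLocalization
        (Submonoid.powers (Ideal.Quotient.mk H h)) (Localization.AtPrime Q) Q
    have hhP : Ideal.Quotient.mk H h ∉ P := fun h1 =>
      hQ.ne_top (Ideal.eq_top_of_isUnit_mem _ h1 (IsLocalization.Away.algebraMap_isUnit _))
    obtain ⟨b, hb, hbP⟩ : ∃ b ∈ Bset, Ideal.Quotient.mk H b ∉ P := by
      by_contra hall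
      push Not at hall
      exact hhP ((Ideal.span_le.2 fun b hb => hall b hb :
        Ideal.span Bset ≤ P.comap (Ideal.Quotient.mk H)) hh)
    have := hb.1 P hbP
    exact Module.Flat.of_linearEquiv
      ((IsLocalization.algEquiv P.primeCompl (Localization.AtPrime Q)
        (Localization.AtPrime P)).toLinearEquiv.restrictScalars C)
  have hτker : ∀ t, τ t = 0 → t ∈ N • (⊤ : Submodule C T) := fun t ht => by
    obtain ⟨y, s, rfl⟩ := IsLocalization.exists_mk'_eq (Submonoid.powers (Ideal.Quotient.mk H h)) t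
    obtain ⟨y, rfl⟩ := Ideal.Quotient.mk_surjective y
    have hy : Φ y = 0 := by
      have h1 : τ (algebraMap (D ⧸ H) T (Ideal.Quotient.mk H y)) = 0 := by
        rw [← IsLocalization.mk'_spec T (Ideal.Quotient.mk H y) s, map_mul, ht, zero_mul]
      exact (AlgHom.congr_fun hτφ y).symm.trans h1
    have key : φ y ∈ N • (⊤ : Submodule C T) := by
      obtain ⟨a, ha, b, hb, hab⟩ := Submodule.mem_sup.1 (hhK y hy)
      have hu : IsUnit (φ h) := IsLocalization.Away.algebraMap_isUnit (S := T) (Ideal.Quotient.mk H h)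
      have e1 : φ y = ↑hu.unit⁻¹ * φ b := by
        have hp : φ a = 0 := by
          change algebraMap (D ⧸ H) T (Ideal.Quotient.mk H a) = 0
          rw [Ideal.Quotient.eq_zero_iff_mem.2 ha, map_zero]
        rw [← zero_add (φ b), ← hp, ← map_add, hab, map_mul, ← mul_assoc,
          IsUnit.val_inv_mul, one_mul]
      rw [e1, Ideal.smul_top_eq_map, Submodule.restrictScalars_mem]
      refine Ideal.mul_mem_left _ _ ?_
      have := Ideal.mem_map_of_mem φ.toRingHom hb
      rw [Ideal.map_map] at this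
      rwa [show φ.toRingHom.comp (algebraMap C D) = algebraMap C T from φ.comp_algebraMap] at this
    rw [Ideal.smul_top_eq_map, Submodule.restrictScalars_mem] at key ⊢
    rw [IsLocalization.mk'_eq_mul_mk'_one]
    exact Ideal.mul_mem_right _ _ key
  have hτs : Function.Surjective τ := fun x => by
    obtain ⟨d, rfl⟩ := hΦ x
    exact ⟨φ d, AlgHom.congr_fun hτφ d⟩
  choose t ht using fun i => hτs (z i)
  obtain ⟨bas, hbas⟩ := exists_basis_of_flat N hN t (by
    refine top_le_iff.1 fun x _ => ?_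
    obtain ⟨c, hc⟩ := (Submodule.mem_span_range_iff_exists_fun C).1 (hz.ge (Submodule.mem_top (x := τ x)))
    rw [show x = ∑ i, c i • t i + (x - ∑ i, c i • t i) by abel]
    exact Submodule.add_mem_sup (Submodule.sum_mem _ fun i _ =>
      Submodule.smul_mem _ _ (Submodule.subset_span ⟨i, rfl⟩))
      (hτker _ (by simp [map_sum, ht, hc])))
    (fun c hc => hind c (by simpa [map_sum, ht] using congrArg τ hc))
  exact ⟨T, inferInstance, inferInstance, φ, τ, bas, hτφ, fun i => by rw [hbas, ht]⟩

end Groth.Agent.Lib.ArtinAtlas
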