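import Mathlib.RingTheory.FinitePresentation
import Mathlib.Data.Matrix.Basic
import Mathlib.LinearAlgebra.Matrix.ToLin

/-!
# The ring of `n`-dimensional representations of a finitely presented algebra
-/

set_option autoImplicit false

universe u

namespace Groth.Agent.Lib.ArtinAtlas

open MvPolynomial

variable (R : Type u) [CommRing R] (k n : ℕ)

/-- Commuting matrices extend to a representation of the polynomial algebra. -/
theorem exists_hom_of_commute {B : Type u} [CommRing B] [Algebra R B] (Y : Fin k → Matrix (Fin n) (Fin n) B)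
    (hY : ∀ s t, Y s * Y t = Y t * Y s) :
    ∃ φ : MvPolynomial (Fin k) R →ₐ[R] Matrix (Fin n) (Fin n) B, ∀ s, φ (X s) = Y s := by
  have h : ∀ x ∈ Set.range Y, ∀ y ∈ Set.range Y, x * y = y * x := by
    rintro _ ⟨s, rfl⟩ _ ⟨t, rfl⟩
    exact hY s t
  let Sa := Algebra.adjoin R (Set.range Y)
  have : IsMulCommutative Sa := Algebra.isMulCommutative_adjoin R h
  let : CommRing Sa := { (inferInstance : Ring Sa) with mul_comm := fun a b => Std.Commutative.comm a b }
  exact ⟨Sa.val.comp (aeval fun s => (⟨Y s, Algebra.subset_adjoin ⟨s, rfl⟩⟩ : Sa)), fun s => by simp⟩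

/-- Descent along a surjection to a noncommutative target. -/
theorem exists_factor_of_surjective {P A M : Type u} [CommRing P] [CommRing A] [Ring M] [Algebra R P]
    [Algebra R A] [Algebra R M] (f : P →ₐ[R] A) (hf : Function.Surjective f) (g : P →ₐ[R] M)
    (H : ∀ p, f p = 0 → g p = 0) : ∃ h : A →ₐ[R] M, ∀ p, h (f p) = g p := by
  have key : ∀ p p', f p = f p' → g p = g p' := fun p p' he => by
    have := H (p - p') (by rw [map_sub, he, sub_self])
    rwa [map_sub, sub_eq_zero] at this
  choose s hs using hf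
  refine ⟨{ toFun := fun a => g (s a)
            map_one' := (key _ 1 (by rw [hs, map_one])).trans (map_one g)
            map_mul' := fun a b => (key _ (s a * s b) (by rw [hs, map_mul, hs, hs])).trans (map_mul g _ _)
            map_zero' := (key _ 0 (by rw [hs, map_zero])).trans (map_zero g)
            map_add' := fun a b => (key _ (s a + s b) (by rw [hs, map_add, hs, hs])).trans (map_add g _ _)
            commutes' := fun r => (key _ (algebraMap R P r) (by rw [hs, AlgHom.commutes])).trans (g.commutes r) },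
    fun p => key _ p (hs _)⟩

/-- The ring of `k` commuting `n × n` matrices. -/
theorem exists_commRing : ∃ (B : Type u) (_ : CommRing B) (_ : Algebra R B),
    Algebra.FinitePresentation R B ∧ ∃ φ : MvPolynomial (Fin k) R →ₐ[R] Matrix (Fin n) (Fin n) B,
      ∀ (C : Type u) [CommRing C] [Algebra R C] (m : MvPolynomial (Fin k) R →ₐ[R] Matrix (Fin n) (Fin n) C),
        ∃! g : B →ₐ[R] C, g.mapMatrix.comp φ = m := by
  let X₀ : Fin k → Matrix (Fin n) (Fin n) (MvPolynomial (Fin k × Fin n × Fin n) R) :=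
    fun s => Matrix.of fun i j => X (s, i, j)
  let comm : Fin k × Fin k × Fin n × Fin n → MvPolynomial (Fin k × Fin n × Fin n) R := fun q =>
    (X₀ q.1 * X₀ q.2.1 - X₀ q.2.1 * X₀ q.1) q.2.2.1 q.2.2.2
  let I1 : Ideal (MvPolynomial (Fin k × Fin n × Fin n) R) := Ideal.span (Set.range comm)
  let q1 := Ideal.Quotient.mkₐ R I1
  have hfp := Algebra.FinitePresentation.quotient (R := R) (A := MvPolynomial (Fin k × Fin n × Fin n) R)
    (I := I1) (Submodule.fg_span (Set.finite_range comm))
  obtain ⟨φ, hφ⟩ := exists_hom_of_commute R k n (fun s => q1.mapMatrix (X₀ s)) (fun s t => by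
    have h : q1.mapMatrix (X₀ s * X₀ t - X₀ t * X₀ s) = 0 := by
      ext i j
      exact Ideal.Quotient.eq_zero_iff_mem.2 (Ideal.subset_span ⟨(s, t, i, j), rfl⟩)
    rwa [map_sub, map_mul, map_mul, sub_eq_zero] at h)
  refine ⟨_, inferInstance, inferInstance, hfp, φ, fun C _ _ m => ?_⟩
  let g0 : MvPolynomial (Fin k × Fin n × Fin n) R →ₐ[R] C := aeval fun q => m (X q.1) q.2.1 q.2.2
  have hg0 : ∀ s, g0.mapMatrix (X₀ s) = m (X s) := fun s => by
    ext i j
    simp [X₀, g0]
  have hker : I1 ≤ RingHom.ker g0 := Ideal.span_le.2 (by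
    rintro _ ⟨⟨s, t, i, j⟩, rfl⟩
    rw [SetLike.mem_coe, RingHom.mem_ker]
    change g0.mapMatrix (X₀ s * X₀ t - X₀ t * X₀ s) i j = 0
    rw [map_sub, map_mul, map_mul, hg0, hg0, ← map_mul m, ← map_mul m, mul_comm (X s), sub_self,
      Matrix.zero_apply])
  refine ⟨Ideal.Quotient.liftₐ I1 g0 fun x hx => hker hx, ?_, fun g' hg' => ?_⟩
  · refine MvPolynomial.algHom_ext fun s => ?_
    rw [AlgHom.comp_apply, hφ]
    exact hg0 s
  · refine Ideal.Quotient.algHom_ext R (MvPolynomial.algHom_ext fun ⟨s, i, j⟩ => ?_)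
    have h1 := congrFun (congrFun (DFunLike.congr_fun hg' (X s)) i) j
    rw [AlgHom.comp_apply, hφ] at h1
    change g' (q1 (X₀ s i j)) = g0 (X (s, i, j))
    refine Eq.trans h1 ?_
    simp [g0]

/-- Commutative representations by `n × n` matrices are represented by a finitely presented algebra. -/
theorem exists_repRing (A : Type u) [CommRing A] [Algebra R A] [Algebra.FinitePresentation R A] :
    ∃ (B : Type u) (_ : CommRing B) (_ : Algebra R B),
    Algebra.FinitePresentation R B ∧ ∃ M : A →ₐ[R] Matrix (Fin n) (Fin n) B,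
      ∀ (C : Type u) [CommRing C] [Algebra R C] (m : A →ₐ[R] Matrix (Fin n) (Fin n) C),
        ∃! g : B →ₐ[R] C, g.mapMatrix.comp M = m := by
  obtain ⟨k, f, hf, rel, hrel⟩ := (inferInstance : Algebra.FinitePresentation R A).out
  obtain ⟨B1, _, _, hB1, φ, hφ⟩ := exists_commRing R k n
  let I2 : Ideal B1 := Ideal.span ((fun q : MvPolynomial (Fin k) R × Fin n × Fin n => φ q.1 q.2.1 q.2.2) ''
    ((rel : Set (MvPolynomial (Fin k) R)) ×ˢ (Set.univ : Set (Fin n × Fin n))))
  have hfp := Algebra.FinitePresentation.quotient (R := R) (A := B1) (I := I2)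
    (Submodule.fg_span ((rel.finite_toSet.prod Set.finite_univ).image _))
  let q2 := Ideal.Quotient.mkₐ R I2
  have hψ : RingHom.ker f.toRingHom ≤ RingHom.ker (q2.mapMatrix.comp φ) := by
    rw [← hrel, Submodule.span_le]
    intro r hr
    rw [SetLike.mem_coe, RingHom.mem_ker]
    ext i j
    exact Ideal.Quotient.eq_zero_iff_mem.2 (Ideal.subset_span ⟨(r, i, j), ⟨hr, trivial⟩, rfl⟩)
  obtain ⟨M, hM⟩ := exists_factor_of_surjective R f hf (q2.mapMatrix.comp φ)
    (fun p hp => RingHom.mem_ker.1 (hψ (RingHom.mem_ker.2 hp)))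
  refine ⟨B1 ⧸ I2, inferInstance, inferInstance, hfp, M, fun C _ _ m => ?_⟩
  obtain ⟨g1, hg1, hu⟩ := hφ C (m.comp f)
  have hker : I2 ≤ RingHom.ker g1 := Ideal.span_le.2 (by
    rintro _ ⟨⟨r, i, j⟩, ⟨hr, -⟩, rfl⟩
    have h1 := congrFun (congrFun (DFunLike.congr_fun hg1 r) i) j
    have h2 : f r = 0 := RingHom.mem_ker.1 (hrel.le (Submodule.subset_span hr))
    rw [SetLike.mem_coe, RingHom.mem_ker]
    simpa [h2] using h1)
  refine ⟨Ideal.Quotient.liftₐ I2 g1 fun x hx => hker hx, ?_, fun g' hg' => ?_⟩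
  · refine AlgHom.ext fun a => ?_
    obtain ⟨p, rfl⟩ := hf a
    rw [AlgHom.comp_apply, hM]
    exact DFunLike.congr_fun hg1 p
  · refine Ideal.Quotient.algHom_ext R ?_
    refine (hu (g'.comp q2) ?_).trans (hu _ ?_).symm
    · refine AlgHom.ext fun p => ?_
      have h1 := DFunLike.congr_fun hg' (f p)
      rw [AlgHom.comp_apply, hM] at h1
      exact h1
    · exact hg1

end Groth.Agent.Lib.ArtinAtlas
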