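import Groth.Agent.Lib.ArtinAtlas.Lift
import Groth.Agent.Lib.ArtinAtlas.RepRing
import Mathlib.RingTheory.Smooth.Locus
import Mathlib.LinearAlgebra.TensorProduct.RightExactness
import Mathlib.RingTheory.TensorProduct.Maps
import Mathlib.LinearAlgebra.Matrix.ToLin

/-!
# Representation rings are smooth at cyclic points given by regular sequences
-/

set_option autoImplicit false

universe u

namespace Groth.Agent.Lib.ArtinAtlas

open IsLocalRing TensorProduct Matrix

variable {R A : Type u} [CommRing R] [CommRing A] [Algebra R A] {n : ℕ}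

/-- Evaluation at a vector of a representation, extended linearly to `C ⊗ A`. -/
noncomputable def evalMap {C C₀ : Type u} [CommRing C] [Algebra R C] [CommRing C₀] [Algebra R C₀]
    (π : C →ₐ[R] C₀) (m : A →ₐ[R] Matrix (Fin n) (Fin n) C₀) :
    C ⊗[R] A →ₐ[R] Matrix (Fin n) (Fin n) C₀ :=
  Algebra.TensorProduct.lift ((Algebra.ofId C₀ _).restrictScalars R |>.comp π) m
    fun c a => Algebra.commutes (π c) (m a)

theorem evalMap_tmul {C C₀ : Type u} [CommRing C] [Algebra R C] [CommRing C₀] [Algebra R C₀]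
    (π : C →ₐ[R] C₀) (m : A →ₐ[R] Matrix (Fin n) (Fin n) C₀) (c : C) (a : A) :
    evalMap π m (c ⊗ₜ[R] a) = π c • m a := by
  change algebraMap C₀ (Matrix (Fin n) (Fin n) C₀) (π c) * m a = π c • m a
  rw [Algebra.smul_def]

/-- The conditions on a cyclic point: its annihilator is supported at one maximal ideal and is cut out
there by a regular sequence. -/
structure IsSlicePoint {k : Type u} [Field k] [Algebra R k] (m : A →ₐ[R] Matrix (Fin n) (Fin n) k)
    (e : Fin n → k) (Q : Ideal (k ⊗[R] A)) (hs : List (k ⊗[R] A)) : Prop where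
  cyclic : ∀ v, ∃ x, evalMap (AlgHom.id R k) m x *ᵥ e = v
  unique : ∀ P : Ideal (k ⊗[R] A), P.IsMaximal →
    (∀ x, evalMap (AlgHom.id R k) m x *ᵥ e = 0 → x ∈ P) → P = Q
  mem : ∀ h ∈ hs, evalMap (AlgHom.id R k) m h *ᵥ e = 0
  gen : ∀ x, evalMap (AlgHom.id R k) m x *ᵥ e = 0 → ∃ s ∉ Q, s * x ∈ Ideal.ofList hs
  reg : ∀ (i : ℕ) (hi : i < hs.length) (x : k ⊗[R] A), hs[i] * x ∈ Ideal.ofList (hs.take i) →
    ∃ s ∉ Q, s * x ∈ Ideal.ofList (hs.take i)

variable [Algebra.FinitePresentation R A] [Module.Flat R A]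
  {C C₀ : Type u} [CommRing C] [IsLocalRing C] [Algebra R C] [CommRing C₀] [IsLocalRing C₀] [Algebra R C₀]
  {k : Type u} [Field k] [Algebra R k] {Qk : Ideal (k ⊗[R] A)} {hsk : List (k ⊗[R] A)}

set_option maxHeartbeats 1000000 in
/-- Cyclic representations which are slices on the closed fibre lift along nilpotent extensions. -/
theorem exists_lift_rep (π : C →ₐ[R] C₀) (hπ : Function.Surjective π)
    (hN : IsNilpotent (RingHom.ker π)) (red : C₀ →ₐ[R] k) (hred : Function.Surjective red)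
    (m₀ : A →ₐ[R] Matrix (Fin n) (Fin n) C₀) (e₀ : Fin n → C₀)
    (hpt : IsSlicePoint (red.mapMatrix.comp m₀) (red ∘ e₀) Qk hsk) :
    ∃ m : A →ₐ[R] Matrix (Fin n) (Fin n) C, π.mapMatrix.comp m = m₀ := by
  classical
  let D := C ⊗[R] A
  let ρ : D →ₐ[R] Matrix (Fin n) (Fin n) C₀ := evalMap π m₀
  let J : Ideal D :=
    { carrier := {x | ρ x *ᵥ e₀ = 0}
      add_mem' := fun {a b} (ha : ρ a *ᵥ e₀ = 0) (hb : ρ b *ᵥ e₀ = 0) => by
        change ρ (a + b) *ᵥ e₀ = 0
        rw [map_add, add_mulVec, ha, hb, add_zero]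
      zero_mem' := by change ρ 0 *ᵥ e₀ = 0; rw [map_zero, zero_mulVec]
      smul_mem' := fun a x (hx : ρ x *ᵥ e₀ = 0) => by
        change ρ (a * x) *ᵥ e₀ = 0
        rw [map_mul, ← mulVec_mulVec, hx, mulVec_zero] }
  let ψ : C →ₐ[R] k := red.comp π
  have hψ : Function.Surjective ψ := hred.comp hπ
  have hker : RingHom.ker ψ = maximalIdeal C :=
    IsLocalRing.eq_maximalIdeal (RingHom.ker_isMaximal_of_surjective ψ hψ)
  let θ : D →ₐ[R] k ⊗[R] A := Algebra.TensorProduct.map ψ (AlgHom.id R A)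
  have hθ : Function.Surjective θ := Algebra.TensorProduct.map_surjective _ _ hψ Function.surjective_id
  have hθker : RingHom.ker θ = (maximalIdeal C).map (algebraMap C D) := by
    rw [← hker]
    exact Algebra.TensorProduct.rTensor_ker ψ hψ
  have hcompat : ∀ x : D, evalMap (AlgHom.id R k) (red.mapMatrix.comp m₀) (θ x) *ᵥ (red ∘ e₀) =
      red ∘ (ρ x *ᵥ e₀) := by
    intro x
    have h : ∀ x : D, evalMap (AlgHom.id R k) (red.mapMatrix.comp m₀) (θ x) = red.mapMatrix (ρ x) := by
      intro x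
      induction x using TensorProduct.induction_on with
      | zero => simp
      | tmul c a =>
        change evalMap (AlgHom.id R k) (red.mapMatrix.comp m₀) (ψ c ⊗ₜ[R] a) =
          red.mapMatrix (evalMap π m₀ (c ⊗ₜ[R] a))
        rw [evalMap_tmul, evalMap_tmul]
        ext i j
        simp [ψ]
      | add a b ha hb => simp [map_add, ha, hb]
    funext i
    rw [h]
    exact (RingHom.map_mulVec red.toRingHom (ρ x) e₀ i).symm
  have hρs : ∀ (c : C) (x : D), ρ (algebraMap C D c * x) *ᵥ e₀ = π c • (ρ x *ᵥ e₀) := fun c x => by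
    have : ρ (algebraMap C D c) = π c • 1 := by
      rw [show algebraMap C D c = c ⊗ₜ[R] (1 : A) from rfl]
      change evalMap π m₀ (c ⊗ₜ[R] (1 : A)) = π c • 1
      rw [evalMap_tmul, map_one]
    rw [map_mul, this, smul_mul_assoc, one_mul, smul_mulVec]
  -- cyclicity by Nakayama
  have hcyc : ∀ v : Fin n → C₀, ∃ x : D, ρ x *ᵥ e₀ = v := by
    let Im : Submodule C₀ (Fin n → C₀) :=
      { carrier := {v | ∃ x : D, ρ x *ᵥ e₀ = v}
        add_mem' := fun {a b} ⟨x, hx⟩ ⟨y, hy⟩ => ⟨x + y, by rw [map_add, add_mulVec, hx, hy]⟩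
        zero_mem' := ⟨0, by rw [map_zero, zero_mulVec]⟩
        smul_mem' := fun r a ⟨x, hx⟩ => by
          obtain ⟨c, rfl⟩ := hπ r
          exact ⟨algebraMap C D c * x, by rw [hρs, hx]⟩ }
    have hk : RingHom.ker red = maximalIdeal C₀ :=
      IsLocalRing.eq_maximalIdeal (RingHom.ker_isMaximal_of_surjective red hred)
    have htop : Im = ⊤ := by
      refine top_le_iff.1 (Submodule.le_of_le_smul_of_le_jacobson_bot (N' := ⊤) Module.Finite.fg_top
        (IsLocalRing.maximalIdeal_le_jacobson _) fun v _ => ?_)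
      obtain ⟨y, hy⟩ := hpt.cyclic (red ∘ v)
      obtain ⟨x, rfl⟩ := hθ y
      rw [hcompat] at hy
      rw [show v = ρ x *ᵥ e₀ + (v - ρ x *ᵥ e₀) by abel]
      refine Submodule.add_mem_sup ⟨x, rfl⟩ ?_
      rw [pi_eq_sum_univ (v - ρ x *ᵥ e₀)]
      refine Submodule.sum_mem _ fun i _ => Submodule.smul_mem_smul ?_ Submodule.mem_top
      rw [← hk, RingHom.mem_ker, Pi.sub_apply, map_sub, sub_eq_zero]
      exact (congrFun hy i).symm
    exact fun v => htop.ge Submodule.mem_top
  choose d hd using fun i => hcyc (Pi.single i 1)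
  let Φ : D →ₐ[C] D ⧸ J := Ideal.Quotient.mkₐ C J
  have hΦ : Function.Surjective Φ := Ideal.Quotient.mk_surjective
  let z : Fin n → D ⧸ J := fun i => Φ (d i)
  have hΦ0 : ∀ x, Φ x = 0 ↔ ρ x *ᵥ e₀ = 0 := fun x => Ideal.Quotient.eq_zero_iff_mem
  have hev : ∀ c : Fin n → C, ρ (∑ i, c i • d i) *ᵥ e₀ = fun i => π (c i) := fun c => by
    rw [map_sum, sum_mulVec]
    simp only [Algebra.smul_def, hρs, hd]
    funext i
    simp [Finset.sum_apply, Pi.single_apply]
  have hz : Submodule.span C (Set.range z) = ⊤ := top_le_iff.1 fun y _ => by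
    obtain ⟨x, rfl⟩ := hΦ y
    choose c hc using fun i => hπ ((ρ x *ᵥ e₀) i)
    refine (Submodule.mem_span_range_iff_exists_fun C).2 ⟨c, ?_⟩
    rw [← sub_eq_zero]
    simp only [z, ← map_smul, ← map_sum, ← map_sub, hΦ0]
    rw [map_sub, sub_mulVec, hev, sub_eq_zero]
    exact funext hc
  have hind : ∀ c : Fin n → C, ∑ i, c i • z i = 0 → ∀ i, c i ∈ RingHom.ker π := fun c hc i => by
    simp only [z, ← map_smul, ← map_sum, hΦ0, hev] at hc
    exact congrFun hc i
  have hNZ : ∀ c ∈ RingHom.ker π, algebraMap C (D ⧸ J) c = 0 := fun c hc => by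
    rw [IsScalarTower.algebraMap_apply C D (D ⧸ J)]
    refine (hΦ0 (algebraMap C D c)).2 ?_
    rw [← mul_one (algebraMap C D c), hρs, RingHom.mem_ker.1 hc, zero_smul]
  have hlift : ∀ y : k ⊗[R] A, evalMap (AlgHom.id R k) (red.mapMatrix.comp m₀) y *ᵥ (red ∘ e₀) = 0 →
      ∃ x : D, θ x = y ∧ Φ x = 0 := by
    intro y hy
    obtain ⟨x, rfl⟩ := hθ y
    rw [hcompat] at hy
    choose c hc using fun i => hπ ((ρ x *ᵥ e₀) i)
    refine ⟨x - ∑ i, c i • d i, ?_, ?_⟩
    · have : ∑ i, c i • d i ∈ RingHom.ker θ := by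
        rw [hθker]
        refine Ideal.sum_mem _ fun i _ => ?_
        rw [Algebra.smul_def]
        refine Ideal.mul_mem_right _ _ (Ideal.mem_map_of_mem _ ?_)
        rw [← hker, RingHom.mem_ker]
        exact (congrArg red (hc i)).trans (congrFun hy i)
      rw [map_sub, RingHom.mem_ker.1 this, sub_zero]
    · rw [hΦ0, map_sub, sub_mulVec, hev, sub_eq_zero]
      exact (funext hc).symm
  choose! lft hlft using fun (h : k ⊗[R] A) (hh : h ∈ hsk) => hlift h (hpt.mem h hh)
  have htake : ∀ i, ((Ideal.ofList ((hsk.map lft).take i)).map θ) = Ideal.ofList (hsk.take i) := fun i => by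
    change Ideal.map θ.toRingHom _ = _
    rw [Ideal.map_ofList, ← List.map_take, List.map_map]
    congr 1
    refine (List.map_congr_left fun h hh => ?_).trans (List.map_id _)
    exact (hlft h (List.mem_of_mem_take hh)).1
  have hpull : ∀ (i : ℕ) (x : D), θ x ∈ Ideal.ofList (hsk.take i) →
      x ∈ Ideal.ofList ((hsk.map lft).take i) ⊔ (maximalIdeal C).map (algebraMap C D) := fun i x hx => by
    rw [← htake, ← Ideal.mem_comap, Ideal.comap_map_of_surjective θ hθ, ← RingHom.ker_eq_comap_bot, hθker] at hx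
    exact hx
  have hQ : ∀ Q : Ideal D, Q.IsMaximal → RingHom.ker Φ ≤ Q → ∀ s : D, θ s ∉ Qk → s ∉ Q := by
    intro Q hQ hle s hs hsQ
    have hm : RingHom.ker θ ≤ Q := by
      rw [hθker, Ideal.map_le_iff_le_comap]
      have : Module.Finite C (D ⧸ J) := ⟨⟨Finset.univ.image z, by simpa using hz⟩⟩
      have hmax : (Q.map Φ).IsMaximal :=
        (Ideal.map_eq_top_or_isMaximal_of_surjective Φ hΦ hQ).resolve_left fun h => hQ.ne_top (by
          have := congrArg (Ideal.comap Φ) h
          rw [Ideal.comap_map_of_surjective Φ hΦ, Ideal.comap_top, ← RingHom.ker_eq_comap_bot] at this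
          exact (sup_eq_left.2 hle).symm.trans this)
      have : Algebra.IsIntegral C (D ⧸ J) := Algebra.IsIntegral.of_finite C (D ⧸ J)
      have h1 := Ideal.isMaximal_comap_of_isIntegral_of_isMaximal (R := C) (Q.map Φ)
      intro c hc
      rw [← IsLocalRing.eq_maximalIdeal h1, Ideal.mem_comap] at hc
      have h2 : algebraMap C D c ∈ (Q.map Φ).comap Φ := by rwa [Ideal.mem_comap, AlgHom.commutes]
      rw [Ideal.comap_map_of_surjective Φ hΦ, ← RingHom.ker_eq_comap_bot, sup_eq_left.2 hle] at h2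
      exact h2
    have hmax : (Q.map θ).IsMaximal :=
      (Ideal.map_eq_top_or_isMaximal_of_surjective θ hθ hQ).resolve_left fun h => hQ.ne_top (by
        have := congrArg (Ideal.comap θ) h
        rw [Ideal.comap_map_of_surjective θ hθ, Ideal.comap_top, ← RingHom.ker_eq_comap_bot] at this
        exact (sup_eq_left.2 hm).symm.trans this)
    refine hs ((hpt.unique _ hmax fun y hy => ?_) ▸ Ideal.mem_map_of_mem θ hsQ)
    obtain ⟨x, rfl, hx⟩ := hlift y hy
    exact Ideal.mem_map_of_mem θ (hle hx)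
  obtain ⟨T, _, _, φ, τ, b, hτφ, hτb⟩ := exists_lift (RingHom.ker π) hN Φ hΦ z hz hind hNZ (hsk.map lft)
    (fun h hh => by
      obtain ⟨h', hh', rfl⟩ := List.mem_map.1 hh
      exact (hlft h' hh').2)
    (fun Q hQm hle x hx => by
      have h1 : evalMap (AlgHom.id R k) (red.mapMatrix.comp m₀) (θ x) *ᵥ (red ∘ e₀) = 0 := by
        rw [hcompat, (hΦ0 x).1 hx]; funext i; simp
      obtain ⟨s, hs, hsx⟩ := hpt.gen _ h1
      obtain ⟨s, rfl⟩ := hθ s
      refine ⟨s, hQ Q hQm hle s hs, ?_⟩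
      have := hpull hsk.length (s * x) (by rwa [List.take_length, map_mul])
      rwa [List.take_of_length_le (by simp)] at this)
    (fun Q hQm hle i hi x hx => by
      have hi' : i < hsk.length := by simpa using hi
      have hkill : ∀ y ∈ (maximalIdeal C).map (algebraMap C D), θ y = 0 := fun y hy =>
        RingHom.mem_ker.1 (hθker ▸ hy)
      obtain ⟨a, ha, w, hw, haw⟩ := Submodule.mem_sup.1 hx
      obtain ⟨s, hs, hsx⟩ := hpt.reg i hi' (θ x) (by
        have h2 := congrArg θ haw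
        rw [map_add, hkill w hw, add_zero, map_mul, List.getElem_map, (hlft _ (List.getElem_mem hi')).1] at h2
        rw [← h2, ← htake]
        exact Ideal.mem_map_of_mem θ ha)
      obtain ⟨s, rfl⟩ := hθ s
      exact ⟨s, hQ Q hQm hle s hs, hpull i (s * x) (by rwa [map_mul])⟩)
  let : Algebra R T := ((algebraMap C T).comp (algebraMap R C)).toAlgebra
  have : IsScalarTower R C T := .of_algebraMap_eq fun _ => rfl
  let incl : A →ₐ[R] D := Algebra.TensorProduct.includeRight
  let m : A →ₐ[R] Matrix (Fin n) (Fin n) C :=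
    ((Algebra.leftMulMatrix b).restrictScalars R).comp ((φ.restrictScalars R).comp incl)
  refine ⟨m, AlgHom.ext fun a => Matrix.ext fun i j => ?_⟩
  change π (Algebra.leftMulMatrix b (φ (incl a)) i j) = m₀ a i j
  rw [Algebra.leftMulMatrix_eq_repr_mul]
  have h1 : Φ (incl a * d j) = ∑ l, b.repr (φ (incl a) * b j) l • z l := by
    rw [← hτφ]
    have := congrArg τ (b.sum_repr (φ (incl a) * b j))
    simp only [map_sum, map_smul, hτb] at this
    rw [this, map_mul, map_mul, hτb j]
    simp [z, ← hτφ]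
  have h2 : ρ (incl a * d j) *ᵥ e₀ = fun l => π (b.repr (φ (incl a) * b j) l) := by
    rw [← hev]
    simp only [z, ← map_smul, ← map_sum] at h1
    rw [← sub_eq_zero, ← sub_mulVec, ← map_sub]
    exact (hΦ0 _).1 (by rw [map_sub, h1, sub_self])
  have h3 := congrFun h2 i
  rw [map_mul, ← mulVec_mulVec, hd] at h3
  rw [show ρ (incl a) = m₀ a by
    change evalMap π m₀ ((1 : C) ⊗ₜ[R] a) = _
    rw [evalMap_tmul, map_one, one_smul]] at h3
  simpa using h3.symm

end Groth.Agent.Lib.ArtinAtlas
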