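import Groth.Agent.Lib.ArtinAtlas.GrpPoints
import Mathlib.RingTheory.TensorProduct.Maps
import Mathlib.Data.Matrix.Basic

/-!
# Translation of matrix representations by points of an affine group
-/

set_option autoImplicit false

universe u

open CategoryTheory CategoryTheory.Limits MonoidalCategory CartesianMonoidalCategory MonObj AlgebraicGeometry
open scoped TensorProduct

namespace Groth.Agent.Lib.ArtinAtlas

variable {S : Scheme.{u}} {R : CommRingCat.{u}} {j : Spec R ⟶ S} {G : Over S} [GrpObj G]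

/-- An affine chart of a group: an algebra representing its points. -/
structure GrpChart (j : Spec R ⟶ S) (G : Over S) : Type (u + 1) where
  /-- the coordinate ring -/
  A : Type u
  [ring : CommRing A]
  [alg : Algebra R A]
  flat : Module.Flat R A
  fp : Algebra.FinitePresentation R A
  /-- the points -/
  e : ∀ (Z : Type u) [CommRing Z] [Algebra R Z], (A →ₐ[R] Z) ≃ (pt j Z ⟶ G)
  natural : ∀ (Z Z' : Type u) [CommRing Z] [Algebra R Z] [CommRing Z'] [Algebra R Z'] (φ : Z →ₐ[R] Z')
    (a : A →ₐ[R] Z), e Z' (φ.comp a) = ptMap j φ ≫ e Z a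

attribute [instance] GrpChart.ring GrpChart.alg

omit [GrpObj G] in
theorem nonempty_grpChart [IsAffineHom G.hom] [Flat G.hom] [LocallyOfFinitePresentation G.hom] :
    Nonempty (GrpChart j G) := by
  obtain ⟨A, _, _, h1, h2, e, he⟩ := exists_points j G
  exact ⟨{ A := A, flat := h1, fp := h2, e := e, natural := he }⟩

namespace GrpChart

variable (c : GrpChart j G)

section Mul

variable {Z Z' : Type u} [CommRing Z] [Algebra R Z] [CommRing Z'] [Algebra R Z']

/-- The product of two points. -/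
noncomputable def mulPts (a b : c.A →ₐ[R] Z) : c.A →ₐ[R] Z := (c.e Z).symm (c.e Z a * c.e Z b)

/-- The neutral point. -/
noncomputable def onePt (Z : Type u) [CommRing Z] [Algebra R Z] : c.A →ₐ[R] Z := (c.e Z).symm 1

theorem comp_mulPts (φ : Z →ₐ[R] Z') (a b : c.A →ₐ[R] Z) :
    φ.comp (c.mulPts a b) = c.mulPts (φ.comp a) (φ.comp b) := by
  apply (c.e Z').injective
  rw [c.natural]
  simp only [mulPts, Equiv.apply_symm_apply]
  rw [c.natural, c.natural, MonObj.comp_mul]

theorem comp_onePt (φ : Z →ₐ[R] Z') : φ.comp (c.onePt Z) = c.onePt Z' := by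
  apply (c.e Z').injective
  rw [c.natural]
  simp only [onePt, Equiv.apply_symm_apply, MonObj.comp_one]

theorem mulPts_assoc (a b d : c.A →ₐ[R] Z) : c.mulPts (c.mulPts a b) d = c.mulPts a (c.mulPts b d) := by
  simp only [mulPts, Equiv.apply_symm_apply, _root_.mul_assoc]

theorem one_mulPts (a : c.A →ₐ[R] Z) : c.mulPts (c.onePt Z) a = a := by
  simp only [mulPts, onePt, Equiv.apply_symm_apply, _root_.one_mul, Equiv.symm_apply_apply]

theorem eq_one_of_mulPts_eq (a b : c.A →ₐ[R] Z) (h : c.mulPts a b = b) : a = c.onePt Z := by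
  have h' := congrArg (c.e Z) h
  simp only [mulPts, Equiv.apply_symm_apply] at h'
  apply (c.e Z).injective
  rw [mul_eq_right] at h'
  simp only [onePt, Equiv.apply_symm_apply, h']

/-- The comultiplication. -/
noncomputable def comul : c.A →ₐ[R] c.A ⊗[R] c.A :=
  c.mulPts Algebra.TensorProduct.includeLeft Algebra.TensorProduct.includeRight

theorem lift_comp_comul (a b : c.A →ₐ[R] Z) :
    (Algebra.TensorProduct.lift a b fun _ _ => Commute.all _ _).comp c.comul = c.mulPts a b := by
  rw [comul, comp_mulPts]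
  congr 1
  · ext x; simp
  · ext x; simp

end Mul

section Twist

variable {n : ℕ} {C : Type u} [CommRing C] [Algebra R C]

/-- The map underlying translation. -/
noncomputable def twistHom (g : c.A →ₐ[R] C) (m : c.A →ₐ[R] Matrix (Fin n) (Fin n) C) :
    c.A ⊗[R] c.A →ₐ[R] Matrix (Fin n) (Fin n) C :=
  Algebra.TensorProduct.lift (((Algebra.ofId C _).restrictScalars R).comp g) m
    fun x y => Algebra.commutes (g x) (m y)

omit [GrpObj G] in
theorem twistHom_tmul (g : c.A →ₐ[R] C) (m : c.A →ₐ[R] Matrix (Fin n) (Fin n) C) (x y : c.A) :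
    c.twistHom g m (x ⊗ₜ[R] y) = algebraMap C (Matrix (Fin n) (Fin n) C) (g x) * m y :=
  Algebra.TensorProduct.lift_tmul _ _ _ _ _

/-- Translation of a representation by a point. -/
noncomputable def twist (g : c.A →ₐ[R] C) (m : c.A →ₐ[R] Matrix (Fin n) (Fin n) C) :
    c.A →ₐ[R] Matrix (Fin n) (Fin n) C :=
  (c.twistHom g m).comp c.comul

theorem twist_eq (g : c.A →ₐ[R] C) (m : c.A →ₐ[R] Matrix (Fin n) (Fin n) C) {Z : Type u} [CommRing Z]
    [Algebra R Z] [Algebra C Z] [IsScalarTower R C Z] (emb : Z →ₐ[C] Matrix (Fin n) (Fin n) C)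
    (γ : c.A →ₐ[R] Z) (h : (emb.restrictScalars R).comp γ = m) :
    c.twist g m = (emb.restrictScalars R).comp (c.mulPts ((IsScalarTower.toAlgHom R C Z).comp g) γ) := by
  subst h
  rw [← c.lift_comp_comul, ← AlgHom.comp_assoc]
  unfold twist
  congr 1
  refine Algebra.TensorProduct.ext' fun x y => ?_
  rw [twistHom_tmul]
  simp

omit [GrpObj G] in
theorem exists_comm (m : c.A →ₐ[R] Matrix (Fin n) (Fin n) C) :
    ∃ (Z : Type u) (_ : CommRing Z) (_ : Algebra R Z) (_ : Algebra C Z) (_ : IsScalarTower R C Z)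
      (emb : Z →ₐ[C] Matrix (Fin n) (Fin n) C) (γ : c.A →ₐ[R] Z),
      Function.Injective emb ∧ (emb.restrictScalars R).comp γ = m := by
  let Sa : Subalgebra C (Matrix (Fin n) (Fin n) C) := Algebra.adjoin C (Set.range m)
  have : IsMulCommutative Sa := Algebra.isMulCommutative_adjoin C (by
    rintro _ ⟨x, rfl⟩ _ ⟨y, rfl⟩
    rw [← map_mul, ← map_mul, mul_comm])
  let : CommRing Sa := { (inferInstance : Ring Sa) with mul_comm := fun a b => Std.Commutative.comm a b }
  let : Algebra R Sa := ((algebraMap C Sa).comp (algebraMap R C)).toAlgebra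
  have : IsScalarTower R C Sa := .of_algebraMap_eq fun _ => rfl
  let γ : c.A →ₐ[R] Sa :=
    { toFun := fun x => ⟨m x, Algebra.subset_adjoin ⟨x, rfl⟩⟩
      map_one' := Subtype.ext (map_one m)
      map_mul' := fun a b => Subtype.ext (map_mul m a b)
      map_zero' := Subtype.ext (map_zero m)
      map_add' := fun a b => Subtype.ext (map_add m a b)
      commutes' := fun r => Subtype.ext ((m.commutes r).trans (IsScalarTower.algebraMap_apply R C _ r)) }
  exact ⟨Sa, inferInstance, inferInstance, inferInstance, inferInstance, Sa.val, γ, Subtype.val_injective,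
    AlgHom.ext fun _ => rfl⟩

theorem twist_one (m : c.A →ₐ[R] Matrix (Fin n) (Fin n) C) : c.twist (c.onePt C) m = m := by
  obtain ⟨Z, _, _, _, _, emb, γ, -, h⟩ := c.exists_comm m
  rw [c.twist_eq _ m emb γ h, comp_onePt, one_mulPts, h]

theorem twist_mul (g g' : c.A →ₐ[R] C) (m : c.A →ₐ[R] Matrix (Fin n) (Fin n) C) :
    c.twist (c.mulPts g g') m = c.twist g (c.twist g' m) := by
  obtain ⟨Z, _, _, _, _, emb, γ, -, h⟩ := c.exists_comm m
  rw [c.twist_eq _ m emb γ h, c.twist_eq g' m emb γ h, c.twist_eq g _ emb _ rfl, comp_mulPts, mulPts_assoc]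

theorem eq_one_of_twist_eq (hn : 0 < n) (g : c.A →ₐ[R] C) (m : c.A →ₐ[R] Matrix (Fin n) (Fin n) C)
    (h : c.twist g m = m) : g = c.onePt C := by
  obtain ⟨Z, _, _, _, _, emb, γ, hemb, hm⟩ := c.exists_comm m
  rw [c.twist_eq g m emb γ hm] at h
  have h1 : c.mulPts ((IsScalarTower.toAlgHom R C Z).comp g) γ = γ := AlgHom.ext fun x =>
    hemb (DFunLike.congr_fun (h.trans hm.symm) x)
  have h2 := c.eq_one_of_mulPts_eq _ _ h1
  rw [← c.comp_onePt (IsScalarTower.toAlgHom R C Z)] at h2
  refine AlgHom.ext fun x => ?_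
  have h3 := congrArg emb (DFunLike.congr_fun h2 x)
  simp only [AlgHom.comp_apply, IsScalarTower.toAlgHom_apply, AlgHom.commutes] at h3
  have h4 := congrFun (congrFun h3 ⟨0, hn⟩) ⟨0, hn⟩
  simpa [Matrix.algebraMap_matrix_apply] using h4

theorem twist_comp {C' : Type u} [CommRing C'] [Algebra R C'] (φ : C →ₐ[R] C') (g : c.A →ₐ[R] C)
    (m : c.A →ₐ[R] Matrix (Fin n) (Fin n) C) :
    φ.mapMatrix.comp (c.twist g m) = c.twist (φ.comp g) (φ.mapMatrix.comp m) := by
  rw [twist, twist, ← AlgHom.comp_assoc]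
  congr 1
  refine Algebra.TensorProduct.ext' fun x y => ?_
  rw [AlgHom.comp_apply, twistHom_tmul, twistHom_tmul]
  ext i k
  simp [Matrix.algebraMap_eq_diagonal, Matrix.diagonal_mul]

end Twist

end GrpChart

section PtLemmas

variable (j)

/-- Morphisms between spectra over the chart are algebra maps. -/
theorem exists_ptMap [IsOpenImmersion j] {Z Z' : Type u} [CommRing Z] [Algebra R Z] [CommRing Z'] [Algebra R Z']
    (q : pt j Z' ⟶ pt j Z) : ∃ φ : Z →ₐ[R] Z', ptMap j φ = q := by
  let f : CommRingCat.of Z ⟶ CommRingCat.of Z' := Spec.preimage q.left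
  have hf : Spec.map f = q.left := Spec.map_preimage _
  have hc : CommRingCat.ofHom (algebraMap R Z) ≫ f = CommRingCat.ofHom (algebraMap R Z') := by
    refine Spec.map_injective ((cancel_mono j).1 ?_)
    rw [Spec.map_comp, hf, Category.assoc]
    exact Over.w q
  exact ⟨{ f.hom with commutes' := fun r => congrArg (fun g : R ⟶ CommRingCat.of Z' => g.hom r) hc },
    Over.OverMorphism.ext hf⟩

theorem ptMap_injective {Z Z' : Type u} [CommRing Z] [Algebra R Z] [CommRing Z'] [Algebra R Z']
    {φ ψ : Z →ₐ[R] Z'} (h : ptMap j φ = ptMap j ψ) : φ = ψ := by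
  have h' := Spec.map_injective (congrArg CommaMorphism.left h)
  exact AlgHom.ext fun x => congrArg (fun f : CommRingCat.of Z ⟶ CommRingCat.of Z' => f.hom x) h'

/-- Affine schemes over the chart are spectra over the chart. -/
theorem exists_pt_iso [IsOpenImmersion j] {B : Type u} [CommRing B] [Algebra R B] (T : Over S) [IsAffine T.left]
    (q : T ⟶ pt j B) : ∃ (Z : Type u) (_ : CommRing Z) (_ : Algebra R Z), Nonempty (pt j Z ≅ T) := by
  let f : T.left ⟶ Spec R := q.left ≫ Spec.map (CommRingCat.ofHom (algebraMap R B))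
  have hf : f ≫ j = T.hom := (Category.assoc _ _ _).trans (Over.w q)
  let r : R ⟶ Γ(T.left, ⊤) := Spec.preimage (T.left.isoSpec.inv ≫ f)
  let : Algebra R Γ(T.left, ⊤) := r.hom.toAlgebra
  refine ⟨Γ(T.left, ⊤), inferInstance, inferInstance, ⟨Over.isoMk T.left.isoSpec.symm ?_⟩⟩
  change T.left.isoSpec.inv ≫ T.hom = Spec.map r ≫ j
  rw [Spec.map_preimage, Category.assoc, hf]

end PtLemmas

end Groth.Agent.Lib.ArtinAtlas
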